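import Mathlib

/-!
Polynomial identities for the Hessian group in characteristic five (the unitary group in dimension three over 25 elements).
-/

set_option autoImplicit false
set_option maxRecDepth 8000
set_option maxHeartbeats 4000000

namespace H85.U35P

variable {F : Type*} [Field F]

/-- the quartic in the Hesse pencil -/
def Phi (p q : F) : F := p ^ 4 + p ^ 3 * q - p ^ 2 * q ^ 2 + 2 * p * q ^ 3 - q ^ 4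

lemma A_p {w : F} (h5 : (5 : F) = 0) (hw : w ^ 2 + w + 1 = 0) (x y z : F) :
    ((w + 3) * (x + y + z)) ^ 3 + ((w + 3) * (x + w * y + w ^ 2 * z)) ^ 3 + ((w + 3) * (x + w ^ 2 * y + w * z)) ^ 3 = 2 * (2 * w + 1) * ((x ^ 3 + y ^ 3 + z ^ 3) + (x * y * z)) := by
  linear_combination (10*w*x^3 + 64*w*x*y*z + 10*w*y^3 + 10*w*z^3 + 11*x^3 + 68*x*y*z + 11*y^3 + 11*z^3) * h5 + (1*w^7*y^3 + 1*w^7*z^3 + 8*w^6*y^3 + 3*w^6*y^2*z + 3*w^6*y*z^2 + 8*w^6*z^3 + 3*w^5*x*y^2 + 3*w^5*x*z^2 + 18*w^5*y^3 + 27*w^5*y^2*z + 27*w^5*y*z^2 + 18*w^5*z^3 + 24*w^4*x*y^2 + 12*w^4*x*y*z + 24*w^4*x*z^2 + 2*w^4*y^3 + 78*w^4*y^2*z + 78*w^4*y*z^2 + 2*w^4*z^3 + 3*w^3*x^2*y + 3*w^3*x^2*z + 57*w^3*x*y^2 + 96*w^3*x*y*z + 57*w^3*x*z^2 + (-11)*w^3*y^3 + 57*w^3*y^2*z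 + 57*w^3*y*z^2 + (-11)*w^3*z^3 + 27*w^2*x^2*y + 27*w^2*x^2*z + 27*w^2*x*y^2 + 216*w^2*x*y*z + 27*w^2*x*z^2 + 36*w^2*y^3 + (-54)*w^2*y^2*z + (-54)*w^2*y*z^2 + 36*w^2*z^3 + 3*w*x^3 + 81*w*x^2*y + 81*w*x^2*z + 18*w*x*y*z + 3*w*y^3 + 3*w*z^3 + 24*x^3 + 81*x^2*y + 81*x^2*z + 81*x*y^2 + (-180)*x*y*z + 81*x*z^2 + (-30)*y^3 + 81*y^2*z + 81*y*z^2 + (-30)*z^3) * hw

lemma A_q {w : F} (h5 : (5 : F) = 0) (hw : w ^ 2 + w + 1 = 0) (x y z : F) :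
    ((w + 3) * (x + y + z)) * ((w + 3) * (x + w * y + w ^ 2 * z)) * ((w + 3) * (x + w ^ 2 * y + w * z)) = -(2 * w + 1) * ((x ^ 3 + y ^ 3 + z ^ 3) + 2 * (x * y * z)) := by
  linear_combination (4*w*x^3 + (-10)*w*x*y*z + 4*w*y^3 + 4*w*z^3 + 4*x^3 + (-11)*x*y*z + 4*y^3 + 4*z^3) * h5 + (1*w^5*x*y*z + 1*w^5*y^2*z + 1*w^5*y*z^2 + 1*w^4*x*y^2 + 8*w^4*x*y*z + 1*w^4*x*z^2 + 1*w^4*y^3 + 9*w^4*y^2*z + 9*w^4*y*z^2 + 1*w^4*z^3 + 1*w^3*x^2*y + 1*w^3*x^2*z + 9*w^3*x*y^2 + 21*w^3*x*y*z + 9*w^3*x*z^2 + 8*w^3*y^3 + 27*w^3*y^2*z + 27*w^3*y*z^2 + 8*w^3*z^3 + 9*w^2*x^2*y + 9*w^2*x^2*z + 27*w^2*x*y^2 + 27*w^2*x*y*z + 27*w^2*x*z^2 + 18*w^2*y^3 + 27*w^2*y^2*z + 27*w^2*y*z^2 + 18*w^2*z^3 + 1*w*x^3 + 27*w*x^2*y + 27*w*x^2*z + 27*w*x*y^2 + 51*w*x*y*z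 + 27*w*x*z^2 + 1*w*y^3 + 1*w*z^3 + 8*x^3 + 27*x^2*y + 27*x^2*z + 57*x*y*z + (-19)*y^3 + (-19)*z^3) * hw

lemma B_p {w : F} (h5 : (5 : F) = 0) (hw : w ^ 2 + w + 1 = 0) (x y z : F) :
    ((w + 3) * (x + y + w ^ 2 * z)) ^ 3 + ((w + 3) * (x + w * y + w * z)) ^ 3 + (w * (w + 3) * (x + w ^ 2 * y + z)) ^ 3 = -(2 * w + 1) * (3 * (x ^ 3 + y ^ 3 + z ^ 3) + 3 * w ^ 2 * (x * y * z)) := by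
  linear_combination (12*w*x^3 + (-69)*w*x*y*z + 12*w*y^3 + 12*w*z^3 + 12*x^3 + (-3)*x*y*z + 12*y^3 + 12*z^3) * h5 + (1*w^10*y^3 + 8*w^9*y^3 + 3*w^8*x*y^2 + 18*w^8*y^3 + 3*w^8*y^2*z + 24*w^7*x*y^2 + 1*w^7*y^3 + 24*w^7*y^2*z + 1*w^7*z^3 + 3*w^6*x^2*y + 54*w^6*x*y^2 + 6*w^6*x*y*z + (-19)*w^6*y^3 + 54*w^6*y^2*z + 3*w^6*y*z^2 + 8*w^6*z^3 + 24*w^5*x^2*y + 3*w^5*x*y^2 + 48*w^5*x*y*z + 3*w^5*x*z^2 + 18*w^5*y^3 + 3*w^5*y^2*z + 27*w^5*y*z^2 + 18*w^5*z^3 + 1*w^4*x^3 + 54*w^4*x^2*y + 3*w^4*x^2*z + (-57)*w^4*x*y^2 + 108*w^4*x*y*z + 27*w^4*x*z^2 + 2*w^4*y^3 + (-54)*w^4*y^2*z + 81*w^4*y*z^2 + 3*w^4*z^3 + 8*w^3*x^3 + 3*w^3*x^2*y + 27*w^3*x^2*z + 57*w^3*x*y^2 + 18*w^3*x*y*z + 81*w^3*x*z^2 + (-11)*w^3*y^3 + 81*w^3*y^2*z + 81*w^3*y*z^2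 + (-3)*w^3*z^3 + 18*w^2*x^3 + (-54)*w^2*x^2*y + 81*w^2*x^2*z + 27*w^2*x*y^2 + (-18)*w^2*x*y*z + 81*w^2*x*z^2 + 36*w^2*y^3 + 81*w^2*y^2*z + 54*w^2*z^3 + 3*w*x^3 + 81*w*x^2*y + 81*w*x^2*z + 330*w*x*y*z + 3*w*y^3 + 3*w*z^3 + (-3)*x^3 + 81*x^2*y + 81*x*y^2 + 15*x*y*z + (-30)*y^3 + (-57)*z^3) * hw

lemma B_q {w : F} (h5 : (5 : F) = 0) (hw : w ^ 2 + w + 1 = 0) (x y z : F) :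
    ((w + 3) * (x + y + w ^ 2 * z)) * ((w + 3) * (x + w * y + w * z)) * (w * (w + 3) * (x + w ^ 2 * y + z)) = -(2 * w + 1) * (w * (x ^ 3 + y ^ 3 + z ^ 3) + 2 * (x * y * z)) := by
  linear_combination ((-10)*w*x*y*z + (-4)*x^3 + (-11)*x*y*z + (-4)*y^3 + (-4)*z^3) * h5 + (1*w^7*y^2*z + 1*w^7*y*z^2 + 1*w^6*x*y*z + 8*w^6*y^2*z + 8*w^6*y*z^2 + 1*w^5*x*y^2 + 10*w^5*x*y*z + 1*w^5*x*z^2 + 1*w^5*y^3 + 19*w^5*y^2*z + 19*w^5*y*z^2 + 1*w^5*z^3 + 1*w^4*x^2*y + 1*w^4*x^2*z + 9*w^4*x*y^2 + 34*w^4*x*y*z + 9*w^4*x*z^2 + 8*w^4*y^3 + 9*w^4*y^2*z + 9*w^4*y*z^2 + 8*w^4*z^3 + 9*w^3*x^2*y + 9*w^3*x^2*z + 27*w^3*x*y^2 + 39*w^3*x*y*z + 27*w^3*x*z^2 + 18*w^3*y^3 + 18*w^3*z^3 + 1*w^2*x^3 + 27*w^2*x^2*y + 27*w^2*x^2*z + 27*w^2*x*y^2 + 27*w^2*x*z^2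 + 1*w^2*y^3 + 27*w^2*y^2*z + 27*w^2*y*z^2 + 1*w^2*z^3 + 8*w*x^3 + 27*w*x^2*y + 27*w*x^2*z + 24*w*x*y*z + (-19)*w*y^3 + (-19)*w*z^3 + 20*x^3 + 57*x*y*z + 20*y^3 + 20*z^3) * hw

lemma A_Phi {w : F} (h5 : (5 : F) = 0) (hw : w ^ 2 + w + 1 = 0) (p q : F) :
    Phi (2 * (2 * w + 1) * (p + q)) (-(2 * w + 1) * (p + 2 * q)) = Phi p q := by
  unfold Phi
  linear_combination ((-2)*p^4 + (-65)*p^3*q + (-223)*p^2*q^2 + (-274)*p*q^3 + (-115)*q^4) * h5 + ((-16)*w^2*p^4 + (-576)*w^2*p^3*q + (-1984)*w^2*p^2*q^2 + (-2432)*w^2*p*q^3 + (-1024)*w^2*q^4 + (-16)*w*p^4 + (-576)*w*p^3*q + (-1984)*w*p^2*q^2 + (-2432)*w*p*q^3 + (-1024)*w*q^4 + 8*p^4 + 288*p^3*q + 992*p^2*q^2 + 1216*p*q^3 + 512*q^4) * hw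

lemma B_Phi {w : F} (h5 : (5 : F) = 0) (hw : w ^ 2 + w + 1 = 0) (p q : F) :
    Phi (-(2 * w + 1) * (3 * p + 3 * w ^ 2 * q)) (-(2 * w + 1) * (w * p + 2 * q)) = -Phi p q := by
  unfold Phi
  linear_combination (63*w*p^4 + (-756)*w*p^3*q + 675*w*p^2*q^2 + 477*w*p*q^3 + (-297)*w*q^4 + 173*p^4 + (-430)*p^3*q + (-605)*p^2*q^2 + 994*p*q^3 + (-164)*q^4) * h5 + (1296*w^10*q^4 + 432*w^9*p*q^3 + 1296*w^9*q^4 + (-144)*w^8*p^2*q^2 + 5616*w^8*p*q^3 + 216*w^8*q^4 + 96*w^7*p^3*q + 1152*w^7*p^2*q^2 + 4392*w^7*p*q^3 + 864*w^7*q^4 + (-16)*w^6*p^4 + (-192)*w^6*p^3*q + 9720*w^6*p^2*q^2 + (-576)*w^6*p*q^3 + (-279)*w^6*q^4 + 80*w^5*p^4 + 832*w^5*p^3*q + 6552*w^5*p^2*q^2 + 4275*w^5*p*q^3 + (-1305)*w^5*q^4 + (-40)*w^4*p^4 + 7072*w^4*p^3*q +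 (-3201)*w^4*p^2*q^2 + 1377*w^4*p*q^3 + 1542*w^4*q^4 + 240*w^3*p^4 + 4654*w^3*p^3*q + 4746*w^3*p^2*q^2 + (-5480)*w^3*p*q^3 + 1011*w^3*q^4 + 1791*w^2*p^4 + (-2808)*w^2*p^3*q + 3441*w^2*p^2*q^2 + 2857*w^2*p*q^3 + (-1693)*w^2*q^4 + 1143*w*p^4 + 1971*w*p^3*q + (-6579)*w*p^2*q^2 + 2887*w*p*q^3 + 554*w*q^4 + (-783)*p^4 + 2205*p^3*q + 2988*p^2*q^2 + (-4920)*p*q^3 + 803*q^4) * hw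

lemma S_core (h5 : (5 : F) = 0) (x y z : F) :
    -Phi (x ^ 3 + 2 * y ^ 3 + x * z) (y * (z + 2 * x ^ 2)) = Phi (x ^ 3 - y ^ 3 + 2 * y * z) (x * (z - y ^ 2)) + (x ^ 6 - 2 * y ^ 6 - 2 * z ^ 3) * (3*x^6 + 3*x^5*y + 3*x*y^5 + 1*y^6) := by
  unfold Phi
  linear_combination ((-1)*x^12 + (-1)*x^11*y + 1*x^10*y^2 + (-1)*x^10*z + (-4)*x^9*y^3 + (-3)*x^9*y*z + 1*x^8*y^4 + 2*x^8*y^2*z + (-1)*x^8*z^2 + 2*x^7*y^5 + (-11)*x^7*y^3*z + (-3)*x^7*y*z^2 + (-11)*x^6*y^6 + 4*x^6*y^4*z + (-1)*x^6*y^2*z^2 + (-4)*x^5*y^7 + 8*x^5*y^5*z + (-14)*x^5*y^3*z^2 + 1*x^5*y*z^3 + 4*x^4*y^8 + (-23)*x^4*y^6*z + 6*x^4*y^4*z^2 + (-2)*x^4*y^2*z^3 + (-6)*x^3*y^9 + (-10)*x^3*y^7*z + 10*x^3*y^5*z^2 + (-8)*x^3*y^3*z^3 + (-1)*x^3*y*z^4 + (-3)*x^2*y^10 + 2*x^2*y^8*z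 + (-7)*x^2*y^6*z^2 + (-2)*x^2*y^4*z^3 + 1*x^2*y^2*z^4 + 1*x*y^11 + (-5)*x*y^9*z + (-6)*x*y^7*z^2 + 6*x*y^5*z^3 + (-2)*x*y^3*z^4 + (-3)*y^12 + (-4)*y^8*z^2 + 6*y^6*z^3 + (-3)*y^4*z^4) * h5

end H85.U35P
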