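import Mathlib
import Cfsg.Agent.Lib.H85.U35P

/-!
The Heisenberg group of order 27 and its normaliser in `SL_3(25)`: the configuration of 36 points.
-/

set_option autoImplicit false
set_option maxRecDepth 8000
set_option linter.unusedSectionVars false
set_option linter.unusedVariables false
set_option linter.unusedSimpArgs false

namespace H85.U35M

open Matrix H85.U35P

variable {F : Type*} [Field F]

/-- the powers of the cube root of unity -/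
def ee (w : F) : Fin 3 → F := ![1, w, w ^ 2]

/-- the monomial matrices -/
def Mx (w : F) (a b : Fin 3) : Matrix (Fin 3) (Fin 3) F := fun i j => if i = j + b then ee w (a * i) else 0

lemma f1 : ∀ k a : Fin 3, k + -a + a = k := by decide
lemma f2 : ∀ i a : Fin 3, i + a + -a = i := by decide
lemma f3 : ∀ k b : Fin 3, k + b - b = k := by decide
lemma f4 : ∀ i b : Fin 3, i - b + b = i := by decide
lemma f5 : ∀ j d b : Fin 3, j + d + b = j + (b + d) := by decide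
lemma f6 : ∀ a b c d j : Fin 3, a * (j + d + b) + c * (j + d) = -(c * b) + (a + c) * (j + d + b) := by decide

section basic

variable {w : F} (h5 : (5 : F) = 0) (hw : w ^ 2 + w + 1 = 0)

include hw in
lemma w3 : w ^ 3 = 1 := by linear_combination (w - 1) * hw

include hw in
lemma ee_add (m n : Fin 3) : ee w (m + n) = ee w m * ee w n := by
  have h3 := w3 hw
  fin_cases m <;> fin_cases n <;> simp [ee] <;>
    first
      | rfl
      | linear_combination -h3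
      | linear_combination -w * h3
      | ring1

include hw in
lemma ee_cube (m : Fin 3) : ee w m ^ 3 = 1 := by
  have := w3 hw
  fin_cases m <;> simp [ee]
  · exact this
  · linear_combination (w ^ 3 + 1) * this

include hw in
lemma ee_ne (m : Fin 3) : ee w m ≠ 0 := by
  intro h
  have := ee_cube hw m
  rw [h] at this
  norm_num at this

/-- the Fourier matrix -/
def Am (w : F) : Matrix (Fin 3) (Fin 3) F := fun i j => (w + 3) * ee w (i * j)

/-- the diagonal vector -/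
def tt (w : F) : Fin 3 → F := ![1, 1, w]
def tt' (w : F) : Fin 3 → F := ![1, 1, w ^ 2]

/-- its conjugate -/
def Bm (w : F) : Matrix (Fin 3) (Fin 3) F := fun i j => tt w i * ((w + 3) * ee w (i * j)) * tt' w j

include hw in
lemma A_mul (a b : Fin 3) : Am w * Mx w a b = ee w (a * b) • (Mx w b (-a) * Am w) := by
  ext i j
  rw [Matrix.smul_apply, Matrix.mul_apply, Matrix.mul_apply, Finset.sum_eq_single (j + b), Finset.sum_eq_single (i + a)]
  · simp only [Am, Mx]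
    rw [if_pos True.intro, if_pos (f2 i a).symm]
    have h1 : ee w (i * (j + b)) * ee w (a * (j + b)) = ee w (a * b) * (ee w (b * i) * ee w ((i + a) * j)) := by
      rw [← ee_add hw, ← ee_add hw, ← ee_add hw]
      congr 1
      revert i j a b
      decide
    rw [smul_eq_mul]
    linear_combination (w + 3) * h1
  · intro k _ hk
    simp only [Mx]
    rw [if_neg (by intro h; apply hk; rw [h]; exact (f1 k a).symm), zero_mul]
  · intro h; exact absurd (Finset.mem_univ _) h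
  · intro k _ hk
    simp only [Mx]
    rw [if_neg hk, mul_zero]
  · intro h; exact absurd (Finset.mem_univ _) h

/-- correction exponents -/
def tau : Fin 3 → Fin 3 := ![0, 2, 0]

include hw in
lemma tt'_add (j b : Fin 3) : tt' w (j + b) = tt' w j * ee w (-(b * (j + b)) - tau b) := by
  have h3 := w3 hw
  fin_cases j <;> fin_cases b <;> simp [tt', ee, tau] <;>
      first
        | rfl
        | linear_combination h3
        | linear_combination -h3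
        | linear_combination w * h3
        | linear_combination -w * h3

include hw in
lemma tt_eq (i d : Fin 3) : tt w i = tt w (i - d) * ee w (tau d + d * i) := by
  have h3 := w3 hw
  fin_cases i <;> fin_cases d <;> simp [tt, ee, tau] <;>
      first
        | rfl
        | linear_combination h3
        | linear_combination -h3
        | linear_combination w * h3
        | linear_combination -w * h3

include hw in
lemma B_mul (a b : Fin 3) : ∃ k : Fin 3, Bm w * Mx w a b = ee w k • (Mx w (2 * b - a) (b - a) * Bm w) := by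
  have key : ∀ a b i j : Fin 3, (Bm w * Mx w a b) i j = Bm w i (j + b) * ee w (a * (j + b)) := by
    intro a b i j
    rw [Matrix.mul_apply, Finset.sum_eq_single (j + b)]
    · simp only [Mx, if_true]
    · intro k _ hk
      simp only [Mx]
      rw [if_neg hk, mul_zero]
    · intro h; exact absurd (Finset.mem_univ _) h
  have key2 : ∀ a b i j : Fin 3, (Mx w a b * Bm w) i j = ee w (a * i) * Bm w (i - b) j := by
    intro a b i j
    rw [Matrix.mul_apply, Finset.sum_eq_single (i - b)]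
    · simp only [Mx]
      rw [if_pos (f4 i b).symm]
    · intro k _ hk
      simp only [Mx]
      rw [if_neg (by intro h; apply hk; rw [h]; exact (f3 k b).symm), zero_mul]
    · intro h; exact absurd (Finset.mem_univ _) h
  refine ⟨tau (b - a) - tau b + a * b - b * b, ?_⟩
  ext i j
  rw [Matrix.smul_apply, key, key2, smul_eq_mul]
  simp only [Bm]
  rw [tt'_add hw j b, tt_eq hw i (b - a)]
  have h1 : ee w (tau (b - a) + (b - a) * i) * ee w (i * (j + b)) * ee w (-(b * (j + b)) - tau b) * ee w (a * (j + b)) =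
      ee w (tau (b - a) - tau b + a * b - b * b) * ee w ((2 * b - a) * i) * ee w ((i - (b - a)) * j) := by
    rw [← ee_add hw, ← ee_add hw, ← ee_add hw, ← ee_add hw, ← ee_add hw]
    congr 1
    revert i j a b
    decide
  linear_combination tt w (i - (b - a)) * (w + 3) * tt' w j * h1

include hw in
lemma Mx_mul (a b c d : Fin 3) : Mx w a b * Mx w c d = ee w (-(c * b)) • Mx w (a + c) (b + d) := by
  ext i j
  rw [Matrix.smul_apply, Matrix.mul_apply, Finset.sum_eq_single (j + d)]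
  · simp only [Mx, if_true]
    by_cases h : i = j + d + b
    · rw [if_pos h, if_pos (h.trans (f5 j d b)), smul_eq_mul, ← ee_add hw, ← ee_add hw]
      congr 1
      rw [h]
      exact f6 a b c d j
    · rw [if_neg h, if_neg (fun h2 => h (h2.trans (f5 j d b).symm)), zero_mul, smul_zero]
  · intro k _ hk
    simp only [Mx]
    rw [if_neg hk, mul_zero]
  · intro h; exact absurd (Finset.mem_univ _) h

end basic

/-- the first coordinate of the pencil -/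
def pv (v : Fin 3 → F) : F := v 0 ^ 3 + v 1 ^ 3 + v 2 ^ 3
def qv (v : Fin 3 → F) : F := v 0 * v 1 * v 2
/-- the Hermitian norm -/
def Nm (σ : F ≃+* F) (v : Fin 3 → F) : F := v 0 * σ (v 0) + v 1 * σ (v 1) + v 2 * σ (v 2)

/-- **the configuration** -/
def Om (σ : F ≃+* F) (v : Fin 3 → F) : Prop := Nm σ v = 0 ∧ Phi (pv v) (qv v) = 0

section inv

variable {w : F} (h5 : (5 : F) = 0) (hw : w ^ 2 + w + 1 = 0) {σ : F ≃+* F} (hσ : ∀ x, σ x = x ^ 5)

include hw hσ in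
lemma σw : σ w = w ^ 2 := by rw [hσ]; linear_combination w ^ 2 * (w3 hw)

lemma A_vec (v : Fin 3 → F) : Am w *ᵥ v = ![(w + 3) * (v 0 + v 1 + v 2), (w + 3) * (v 0 + w * v 1 + w ^ 2 * v 2),
    (w + 3) * (v 0 + w ^ 2 * v 1 + w * v 2)] := by
  ext i
  fin_cases i <;> simp [Matrix.mulVec, dotProduct, Fin.sum_univ_three, Am, ee] <;> ring

include hw in
lemma B_vec (v : Fin 3 → F) : Bm w *ᵥ v = ![(w + 3) * (v 0 + v 1 + w ^ 2 * v 2), (w + 3) * (v 0 + w * v 1 + w * v 2),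
    w * (w + 3) * (v 0 + w ^ 2 * v 1 + v 2)] := by
  have h3 := w3 hw
  ext i
  fin_cases i <;> simp [Matrix.mulVec, dotProduct, Fin.sum_univ_three, Bm, tt, tt', ee]
  · ring
  · linear_combination (w + 3) * v 2 * w * h3
  · linear_combination w * (w + 3) * v 2 * h3

include h5 hw hσ in
lemma Nm_A (v : Fin 3 → F) : Nm σ (Am w *ᵥ v) = Nm σ v := by
  have hs := σw hw hσ
  have s3 : σ 3 = 3 := map_ofNat σ 3
  rw [A_vec]
  simp only [Nm, Matrix.cons_val_zero, Matrix.cons_val_one, Matrix.cons_val, map_add, map_mul, map_pow, hs, s3]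
  linear_combination (4*(v 0)*(σ (v 0)) + 4*(v 1)*(σ (v 1)) + 4*(v 2)*(σ (v 2))) * h5 + (1*w^7*(v 1)*(σ (v 1)) + 1*w^7*(v 2)*(σ (v 2)) + 2*w^6*(v 1)*(σ (v 1)) + 1*w^6*(v 1)*(σ (v 2)) + 1*w^6*(v 2)*(σ (v 1)) + 2*w^6*(v 2)*(σ (v 2)) + 1*w^5*(v 0)*(σ (v 1)) + 1*w^5*(v 0)*(σ (v 2)) + 3*w^5*(v 1)*(σ (v 2)) + 3*w^5*(v 2)*(σ (v 1)) + 2*w^4*(v 0)*(σ (v 1)) + 2*w^4*(v 0)*(σ (v 2)) + 8*w^4*(v 1)*(σ (v 1)) + 2*w^4*(v 1)*(σ (v 2)) + 2*w^4*(v 2)*(σ (v 1)) + 8*w^4*(v 2)*(σ (v 2)) + 1*w^3*(v 0)*(σ (v 1)) + 1*w^3*(v 0)*(σ (v 2)) + 1*w^3*(v 1)*(σ (v 0)) + (-5)*w^3*(v 1)*(σ (v 1)) + 7*w^3*(v 1)*(σ (v 2)) + 1*w^3*(v 2)*(σ (v 0)) + 7*w^3*(v 2)*(σ (v 1)) + (-5)*w^3*(v 2)*(σ (v 2)) + 9*w^2*(v 0)*(σ (v 1)) + 9*w^2*(v 0)*(σ (v 2)) + 3*w^2*(v 1)*(σ (v 0)) + 3*w^2*(v 2)*(σ (v 0)) + 3*w*(v 0)*(σ (v 0)) + (-6)*w*(v 0)*(σ (v 1)) + (-6)*w*(v 0)*(σ (v 2)) + 3*w*(v 1)*(σ (v 0)) + 15*w*(v 1)*(σ (v 1)) + (-6)*w*(v 1)*(σ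 (v 2)) + 3*w*(v 2)*(σ (v 0)) + (-6)*w*(v 2)*(σ (v 1)) + 15*w*(v 2)*(σ (v 2)) + 6*(v 0)*(σ (v 0)) + 9*(v 0)*(σ (v 1)) + 9*(v 0)*(σ (v 2)) + 9*(v 1)*(σ (v 0)) + (-12)*(v 1)*(σ (v 1)) + 9*(v 1)*(σ (v 2)) + 9*(v 2)*(σ (v 0)) + 9*(v 2)*(σ (v 1)) + (-12)*(v 2)*(σ (v 2))) * hw

include h5 hw hσ in
lemma Nm_B (v : Fin 3 → F) : Nm σ (Bm w *ᵥ v) = Nm σ v := by
  have hs := σw hw hσ
  have s3 : σ 3 = 3 := map_ofNat σ 3
  rw [B_vec hw]
  simp only [Nm, Matrix.cons_val_zero, Matrix.cons_val_one, Matrix.cons_val, map_add, map_mul, map_pow, hs, s3]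
  linear_combination (4*(v 0)*(σ (v 0)) + 4*(v 1)*(σ (v 1)) + 4*(v 2)*(σ (v 2))) * h5 + (1*w^10*(v 1)*(σ (v 1)) + 2*w^9*(v 1)*(σ (v 1)) + 1*w^8*(v 0)*(σ (v 1)) + 1*w^8*(v 2)*(σ (v 1)) + 2*w^7*(v 0)*(σ (v 1)) + 7*w^7*(v 1)*(σ (v 1)) + 2*w^7*(v 2)*(σ (v 1)) + 1*w^7*(v 2)*(σ (v 2)) + 1*w^6*(v 1)*(σ (v 0)) + (-7)*w^6*(v 1)*(σ (v 1)) + 1*w^6*(v 1)*(σ (v 2)) + 2*w^6*(v 2)*(σ (v 2)) + 7*w^5*(v 0)*(σ (v 1)) + 1*w^5*(v 0)*(σ (v 2)) + 2*w^5*(v 1)*(σ (v 0)) + 3*w^5*(v 1)*(σ (v 2)) + 7*w^5*(v 2)*(σ (v 1)) + 1*w^4*(v 0)*(σ (v 0)) + (-7)*w^4*(v 0)*(σ (v 1)) + 3*w^4*(v 0)*(σ (v 2)) + 8*w^4*(v 1)*(σ (v 1)) + 3*w^4*(v 1)*(σ (v 2)) + 1*w^4*(v 2)*(σ (v 0)) + (-6)*w^4*(v 2)*(σ (v 1)) + 9*w^4*(v 2)*(σ (v 2)) + 2*w^3*(v 0)*(σ (v 0)) + 1*w^3*(v 0)*(σ (v 1)) + 3*w^3*(v 0)*(σ (v 2)) + 7*w^3*(v 1)*(σ (v 0)) + (-5)*w^3*(v 1)*(σ (v 1)) + 9*w^3*(v 1)*(σ (v 2)) + 3*w^3*(v 2)*(σ (v 0)) + 3*w^3*(v 2)*(σ (v 1)) + (-3)*w^3*(v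 2)*(σ (v 2)) + 9*w^2*(v 0)*(σ (v 1)) + 9*w^2*(v 0)*(σ (v 2)) + (-6)*w^2*(v 1)*(σ (v 0)) + 3*w^2*(v 2)*(σ (v 0)) + 9*w^2*(v 2)*(σ (v 1)) + 9*w*(v 0)*(σ (v 0)) + (-6)*w*(v 0)*(σ (v 1)) + 3*w*(v 1)*(σ (v 0)) + 15*w*(v 1)*(σ (v 1)) + 9*w*(v 2)*(σ (v 0)) + 21*w*(v 2)*(σ (v 2)) + (-3)*(v 0)*(σ (v 0)) + 9*(v 0)*(σ (v 1)) + 9*(v 1)*(σ (v 0)) + (-12)*(v 1)*(σ (v 1)) + (-21)*(v 2)*(σ (v 2))) * hw

include h5 hw hσ in
lemma Om_A (v : Fin 3 → F) : Om σ (Am w *ᵥ v) ↔ Om σ v := by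
  have hs := σw hw hσ
  have h3 := w3 hw
  have s3 : σ 3 = 3 := map_ofNat σ 3
  have e1 := Nm_A h5 hw hσ v
  have e2 : Phi (pv (Am w *ᵥ v)) (qv (Am w *ᵥ v)) = Phi (pv v) (qv v) := by
    rw [A_vec]
    simp only [pv, qv, Matrix.cons_val_zero, Matrix.cons_val_one, Matrix.cons_val]
    rw [A_p h5 hw, A_q h5 hw, A_Phi h5 hw]
  rw [Om, Om, e1, e2]

include h5 hw hσ in
lemma Om_B (v : Fin 3 → F) : Om σ (Bm w *ᵥ v) ↔ Om σ v := by
  have hs := σw hw hσ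
  have h3 := w3 hw
  have s3 : σ 3 = 3 := map_ofNat σ 3
  have e1 := Nm_B h5 hw hσ v
  have e2 : Phi (pv (Bm w *ᵥ v)) (qv (Bm w *ᵥ v)) = - Phi (pv v) (qv v) := by
    rw [B_vec hw]
    simp only [pv, qv, Matrix.cons_val_zero, Matrix.cons_val_one, Matrix.cons_val]
    rw [B_p h5 hw, B_q h5 hw, B_Phi h5 hw]
  rw [Om, Om, e1, e2, neg_eq_zero]

end inv

end H85.U35M
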