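import Mathlib
import Cfsg.Agent.Lib.H85.U35M

/-!
The Heisenberg group of order 27 and its normaliser in `SL_3(25)`: monomial elements, the extra involution.
-/

set_option autoImplicit false
set_option maxRecDepth 8000
set_option linter.unusedSectionVars false
set_option linter.unusedVariables false
set_option linter.unusedSimpArgs false

namespace H85.U35N

open Matrix H85.U35P H85.U35M

variable {F : Type*} [Field F] {w : F}

lemma g3 : ∀ m n : Fin 3, m - n + n = m := by decide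
lemma g4 : ∀ m n : Fin 3, m - n = 0 → m = n := by decide

lemma ee_inj (hw : w ^ 2 + w + 1 = 0) (h3 : (3 : F) ≠ 0) {m n : Fin 3} (h : ee w m = ee w n) : m = n := by
  have hw3 := w3 hw
  have h1 : w ≠ 1 := by
    rintro rfl
    apply h3
    linear_combination hw
  have key : ∀ m : Fin 3, ee w m = 1 → m = 0 := by
    intro m hm
    fin_cases m
    · rfl
    · exact absurd (by simpa [ee] using hm) h1
    · exfalso
      apply h1
      have h2 : w ^ 2 = 1 := by simpa [ee] using hm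
      linear_combination hw3 - w * h2
  have h4 : ee w (m - n) = 1 := by
    have h5 : ee w (m - n) * ee w n = ee w n := by
      rw [← ee_add hw, g3, h]
    exact mul_right_cancel₀ (ee_ne hw n) (by rw [h5, one_mul])
  have h6 := key _ h4
  exact g4 m n h6

lemma g1 : ∀ e k i j : Fin 3, (e = 1 ∨ e = 2) → (i = e * (j - k) ↔ j = k + e * i) := by decide
lemma g2 : ∀ e k : Fin 3, (e = 1 ∨ e = 2) → ∀ i j : Fin 3, e * (i - k) = e * (j - k) → i = j := by decide

/-- the monomial elements -/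
theorem mono (hw : w ^ 2 + w + 1 = 0) (h3 : (3 : F) ≠ 0) (h24 : ∀ d : F, d ≠ 0 → d ^ 24 = 1)
    {h : Matrix (Fin 3) (Fin 3) F} (hdet : h.det = 1) {e k a b k' : Fin 3} (he : e = 1 ∨ e = 2)
    (hX : h * Mx w 1 0 = ee w k • (Mx w e 0 * h)) (hY : h * Mx w 0 1 = ee w k' • (Mx w a b * h)) (v : Fin 3 → F) :
    Phi (pv (h *ᵥ v)) (qv (h *ᵥ v)) = Phi (pv v) (qv v) := by
  have z : ∀ i j, j ≠ k + e * i → h i j = 0 := by
    intro i j hij
    have h1 := congrFun (congrFun hX i) j
    rw [Matrix.smul_apply, Matrix.mul_apply, Matrix.mul_apply, Finset.sum_eq_single j, Finset.sum_eq_single i] at h1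
    · simp only [Mx, add_zero, if_true, one_mul, smul_eq_mul] at h1
      by_contra h0
      apply hij
      apply ee_inj hw h3
      rw [ee_add hw]
      apply mul_left_cancel₀ h0
      linear_combination h1
    · intro l _ hl
      simp only [Mx, add_zero]
      rw [if_neg (Ne.symm hl), zero_mul]
    · intro h; exact absurd (Finset.mem_univ _) h
    · intro l _ hl
      simp only [Mx, add_zero]
      rw [if_neg hl, mul_zero]
    · intro h; exact absurd (Finset.mem_univ _) h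
  have y : ∀ i j, h i (j + 1) = ee w (k' + a * i) * h (i - b) j := by
    intro i j
    have h1 := congrFun (congrFun hY i) j
    rw [Matrix.smul_apply, Matrix.mul_apply, Matrix.mul_apply, Finset.sum_eq_single (j + 1), Finset.sum_eq_single (i - b)] at h1
    · simp only [Mx, if_true, zero_mul, smul_eq_mul] at h1
      rw [if_pos (f4 i b).symm] at h1
      rw [ee_add hw]
      have h2 : ee w 0 = 1 := rfl
      rw [h2] at h1
      linear_combination h1
    · intro l _ hl
      simp only [Mx]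
      rw [if_neg (by intro h; apply hl; rw [h]; exact (f3 l b).symm), zero_mul]
    · intro h; exact absurd (Finset.mem_univ _) h
    · intro l _ hl
      simp only [Mx]
      rw [if_neg hl, mul_zero]
    · intro h; exact absurd (Finset.mem_univ _) h
  have dn : ∀ j, h (e * (j - k)) j ≠ 0 := by
    intro j h0
    have : h.det = 0 := by
      apply Matrix.det_eq_zero_of_column_eq_zero j
      intro i
      by_cases hi : i = e * (j - k)
      · rw [hi, h0]
      · exact z i j (fun h => hi ((g1 e k i j he).mpr h))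
    rw [this] at hdet
    exact zero_ne_one hdet
  have cube : ∀ j, h (e * (j + 1 - k)) (j + 1) ^ 3 = h (e * (j - k)) j ^ 3 := by
    intro j
    have h1 := y (e * (j + 1 - k)) j
    have h2 : e * (j + 1 - k) - b = e * (j - k) := by
      by_contra hne
      rw [z _ j (fun h => hne ((g1 e k _ j he).mpr h)), mul_zero] at h1
      exact dn _ h1
    rw [h1, h2, mul_pow, ee_cube hw, one_mul]
  have c1 := cube 0
  have c2 := cube 1
  have n0 := dn 0
  have n1 := dn 1
  have n2 := dn 2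
  rw [Matrix.det_fin_three] at hdet
  have z00 := z 0 0
  have z01 := z 0 1
  have z02 := z 0 2
  have z10 := z 1 0
  have z11 := z 1 1
  have z12 := z 1 2
  have z20 := z 2 0
  have z21 := z 2 1
  have z22 := z 2 2
  -- the conclusion from the scalars
  have fin : ∀ d0 d1 d2 s : F, d0 ≠ 0 → d1 ^ 3 = d0 ^ 3 → d2 ^ 3 = d1 ^ 3 → d0 * d1 * d2 = s → s ^ 2 = 1 → d0 ^ 3 = s := by
    intro d0 d1 d2 s hd0 e1 e2 hp hs
    have h1 : (d0 ^ 3) ^ 3 = s := by
      have : (d0 ^ 3) * (d1 ^ 3) * (d2 ^ 3) = s ^ 3 := by rw [← hp]; ring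
      rw [e2, e1] at this
      linear_combination this + s * hs
    have h2 : (d0 ^ 3) ^ 8 = 1 := by rw [← pow_mul]; exact h24 d0 hd0
    have h4 : (d0 ^ 3) ^ 9 = s ^ 3 := by rw [← h1]; ring
    linear_combination h4 - d0 ^ 3 * h2 + s * hs
  have fin2 : ∀ (d : Fin 3 → F) (s : F), d 0 ≠ 0 → d 1 ^ 3 = d 0 ^ 3 → d 2 ^ 3 = d 1 ^ 3 → d 0 * d 1 * d 2 = s → s ^ 2 = 1 →
      pv (h *ᵥ v) = (d 0 * v 0) ^ 3 + (d 1 * v 1) ^ 3 + (d 2 * v 2) ^ 3 →
      qv (h *ᵥ v) = (d 0 * v 0) * (d 1 * v 1) * (d 2 * v 2) → Phi (pv (h *ᵥ v)) (qv (h *ᵥ v)) = Phi (pv v) (qv v) := by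
    intro d s h0 e1 e2 hp hs hpp hqq
    have h3 := fin (d 0) (d 1) (d 2) s h0 e1 e2 hp hs
    have h4 : pv (h *ᵥ v) = s * pv v := by
      rw [hpp]
      simp only [pv]
      rw [mul_pow, mul_pow, mul_pow, e2, e1, h3]
      ring
    have h5 : qv (h *ᵥ v) = s * qv v := by
      rw [hqq, ← hp]
      simp only [qv]
      ring
    rw [h4, h5]
    unfold Phi
    linear_combination (s ^ 2 + 1) * (pv v ^ 4 + pv v ^ 3 * qv v - pv v ^ 2 * qv v ^ 2 + 2 * pv v * qv v ^ 3 - qv v ^ 4) * hs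
  have hs1 : (1 : F) ^ 2 = 1 := one_pow 2
  have hs2 : (-1 : F) ^ 2 = 1 := by ring
  have mv : ∀ i, (h *ᵥ v) i = h i 0 * v 0 + h i 1 * v 1 + h i 2 * v 2 := by
    intro i
    simp [Matrix.mulVec, dotProduct, Fin.sum_univ_three]
  rcases he with rfl | rfl
  · fin_cases k
    · have e1 := z01 (by decide); have e2 := z02 (by decide); have e3 := z10 (by decide)
      have e4 := z12 (by decide); have e5 := z20 (by decide); have e6 := z21 (by decide)
      simp only [e1, e2, e3, e4, e5, e6] at hdet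
      refine fin2 (fun j => h (![0, 1, 2] j) j) 1 n0 c1 c2 ?_ hs1 ?_ ?_
      · simp only [Matrix.cons_val_zero, Matrix.cons_val_one, Matrix.cons_val]
        linear_combination hdet
      · simp only [pv, mv, Matrix.cons_val_zero, Matrix.cons_val_one, Matrix.cons_val]; rw [e1, e2, e3, e4, e5, e6]; ring
      · simp only [qv, mv, Matrix.cons_val_zero, Matrix.cons_val_one, Matrix.cons_val]; rw [e1, e2, e3, e4, e5, e6]; ring
    · have e1 := z00 (by decide); have e2 := z02 (by decide); have e3 := z10 (by decide)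
      have e4 := z11 (by decide); have e5 := z21 (by decide); have e6 := z22 (by decide)
      simp only [e1, e2, e3, e4, e5, e6] at hdet
      refine fin2 (fun j => h (![2, 0, 1] j) j) 1 n0 c1 c2 ?_ hs1 ?_ ?_
      · simp only [Matrix.cons_val_zero, Matrix.cons_val_one, Matrix.cons_val]
        linear_combination hdet
      · simp only [pv, mv, Matrix.cons_val_zero, Matrix.cons_val_one, Matrix.cons_val]; rw [e1, e2, e3, e4, e5, e6]; ring
      · simp only [qv, mv, Matrix.cons_val_zero, Matrix.cons_val_one, Matrix.cons_val]; rw [e1, e2, e3, e4, e5, e6]; ring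
    · have e1 := z00 (by decide); have e2 := z01 (by decide); have e3 := z11 (by decide)
      have e4 := z12 (by decide); have e5 := z20 (by decide); have e6 := z22 (by decide)
      simp only [e1, e2, e3, e4, e5, e6] at hdet
      refine fin2 (fun j => h (![1, 2, 0] j) j) 1 n0 c1 c2 ?_ hs1 ?_ ?_
      · simp only [Matrix.cons_val_zero, Matrix.cons_val_one, Matrix.cons_val]
        linear_combination hdet
      · simp only [pv, mv, Matrix.cons_val_zero, Matrix.cons_val_one, Matrix.cons_val]; rw [e1, e2, e3, e4, e5, e6]; ring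
      · simp only [qv, mv, Matrix.cons_val_zero, Matrix.cons_val_one, Matrix.cons_val]; rw [e1, e2, e3, e4, e5, e6]; ring
  · fin_cases k
    · have e1 := z01 (by decide); have e2 := z02 (by decide); have e3 := z10 (by decide)
      have e4 := z11 (by decide); have e5 := z20 (by decide); have e6 := z22 (by decide)
      simp only [e1, e2, e3, e4, e5, e6] at hdet
      refine fin2 (fun j => h (![0, 2, 1] j) j) (-1) n0 c1 c2 ?_ hs2 ?_ ?_
      · simp only [Matrix.cons_val_zero, Matrix.cons_val_one, Matrix.cons_val]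
        linear_combination -hdet
      · simp only [pv, mv, Matrix.cons_val_zero, Matrix.cons_val_one, Matrix.cons_val]; rw [e1, e2, e3, e4, e5, e6]; ring
      · simp only [qv, mv, Matrix.cons_val_zero, Matrix.cons_val_one, Matrix.cons_val]; rw [e1, e2, e3, e4, e5, e6]; ring
    · have e1 := z00 (by decide); have e2 := z02 (by decide); have e3 := z11 (by decide)
      have e4 := z12 (by decide); have e5 := z20 (by decide); have e6 := z21 (by decide)
      simp only [e1, e2, e3, e4, e5, e6] at hdet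
      refine fin2 (fun j => h (![1, 0, 2] j) j) (-1) n0 c1 c2 ?_ hs2 ?_ ?_
      · simp only [Matrix.cons_val_zero, Matrix.cons_val_one, Matrix.cons_val]
        linear_combination -hdet
      · simp only [pv, mv, Matrix.cons_val_zero, Matrix.cons_val_one, Matrix.cons_val]; rw [e1, e2, e3, e4, e5, e6]; ring
      · simp only [qv, mv, Matrix.cons_val_zero, Matrix.cons_val_one, Matrix.cons_val]; rw [e1, e2, e3, e4, e5, e6]; ring
    · have e1 := z00 (by decide); have e2 := z01 (by decide); have e3 := z10 (by decide)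
      have e4 := z12 (by decide); have e5 := z21 (by decide); have e6 := z22 (by decide)
      simp only [e1, e2, e3, e4, e5, e6] at hdet
      refine fin2 (fun j => h (![2, 1, 0] j) j) (-1) n0 c1 c2 ?_ hs2 ?_ ?_
      · simp only [Matrix.cons_val_zero, Matrix.cons_val_one, Matrix.cons_val]
        linear_combination -hdet
      · simp only [pv, mv, Matrix.cons_val_zero, Matrix.cons_val_one, Matrix.cons_val]; rw [e1, e2, e3, e4, e5, e6]; ring
      · simp only [qv, mv, Matrix.cons_val_zero, Matrix.cons_val_one, Matrix.cons_val]; rw [e1, e2, e3, e4, e5, e6]; ring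

/-- normalising the Heisenberg group -/
def Nr (w : F) (h : Matrix (Fin 3) (Fin 3) F) : Prop :=
  ∀ a b, ∃ k c d, h * Mx w a b = ee w k • (Mx w c d * h)

lemma Nr.mul (hw : w ^ 2 + w + 1 = 0) {g h : Matrix (Fin 3) (Fin 3) F} (hg : Nr w g) (hh : Nr w h) : Nr w (g * h) := by
  intro a b
  obtain ⟨k, c, d, h1⟩ := hh a b
  obtain ⟨l, c', d', h2⟩ := hg c d
  refine ⟨k + l, c', d', ?_⟩
  rw [Matrix.mul_assoc, h1, Matrix.mul_smul, ← Matrix.mul_assoc, h2, Matrix.smul_mul, smul_smul, ← ee_add hw,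
    Matrix.mul_assoc]

lemma Nr_A (hw : w ^ 2 + w + 1 = 0) : Nr w (Am w) := fun a b => ⟨_, _, _, A_mul hw a b⟩
lemma Nr_B (hw : w ^ 2 + w + 1 = 0) : Nr w (Bm w) := fun a b => by
  obtain ⟨k, h⟩ := B_mul hw a b
  exact ⟨k, _, _, h⟩

lemma Mx_zero : Mx w 0 0 = 1 := by
  ext i j
  simp only [Mx, add_zero, zero_mul, Matrix.one_apply]
  rfl

lemma g6 : ∀ a : Fin 3, 2 * a - a = a := by decide
lemma g5 : ∀ a b : Fin 3, (a = 0 ∧ b = 0) ∨ (b = 0 ∧ (a = 1 ∨ a = 2)) ∨ (a = 0 ∧ (b = 1 ∨ b = 2)) ∨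
    (a = b ∧ (a = 1 ∨ a = 2)) ∨ (b = - a ∧ (a = 1 ∨ a = 2)) := by decide

/-- determinants of the two Fourier matrices -/
lemma det_A (h5 : (5 : F) = 0) (hw : w ^ 2 + w + 1 = 0) : (Am w).det = 1 := by
  rw [Matrix.det_fin_three]
  have a00 : Am w 0 0 = (w + 3) * 1 := rfl
  have a01 : Am w 0 1 = (w + 3) * 1 := rfl
  have a02 : Am w 0 2 = (w + 3) * 1 := rfl
  have a10 : Am w 1 0 = (w + 3) * 1 := rfl
  have a11 : Am w 1 1 = (w + 3) * w := rfl
  have a12 : Am w 1 2 = (w + 3) * w ^ 2 := rfl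
  have a20 : Am w 2 0 = (w + 3) * 1 := rfl
  have a21 : Am w 2 1 = (w + 3) * w ^ 2 := rfl
  have a22 : Am w 2 2 = (w + 3) * w := rfl
  rw [a00, a01, a02, a10, a11, a12, a20, a21, a22]
  linear_combination ((-12)*w + 10) * h5 + ((-1)*w^5 + (-8)*w^4 + (-15)*w^3 + 21*w^2 + 57*w + (-51)) * hw

lemma det_B (h5 : (5 : F) = 0) (hw : w ^ 2 + w + 1 = 0) : (Bm w).det = 1 := by
  rw [Matrix.det_fin_three]
  have a00 : Bm w 0 0 = 1 * ((w + 3) * 1) * 1 := rfl
  have a01 : Bm w 0 1 = 1 * ((w + 3) * 1) * 1 := rfl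
  have a02 : Bm w 0 2 = 1 * ((w + 3) * 1) * w ^ 2 := rfl
  have a10 : Bm w 1 0 = 1 * ((w + 3) * 1) * 1 := rfl
  have a11 : Bm w 1 1 = 1 * ((w + 3) * w) * 1 := rfl
  have a12 : Bm w 1 2 = 1 * ((w + 3) * w ^ 2) * w ^ 2 := rfl
  have a20 : Bm w 2 0 = w * ((w + 3) * 1) * 1 := rfl
  have a21 : Bm w 2 1 = w * ((w + 3) * w ^ 2) * 1 := rfl
  have a22 : Bm w 2 2 = w * ((w + 3) * w) * w ^ 2 := rfl
  rw [a00, a01, a02, a10, a11, a12, a20, a21, a22]
  linear_combination ((-12)*w + 10) * h5 + ((-1)*w^8 + (-8)*w^7 + (-15)*w^6 + 21*w^5 + 57*w^4 + (-51)*w^3 + (-60)*w^2 + 111*w + (-51)) * hw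

/-- **the normaliser preserves the configuration** -/
theorem norm_Om {σ : F ≃+* F} (hσ : ∀ x, σ x = x ^ 5) (h5 : (5 : F) = 0) (hw : w ^ 2 + w + 1 = 0) (h3 : (3 : F) ≠ 0)
    (h24 : ∀ d : F, d ≠ 0 → d ^ 24 = 1) {g : Matrix (Fin 3) (Fin 3) F} (hdet : g.det = 1) (hn : Nr w g)
    (hN : ∀ v, Nm σ (g *ᵥ v) = Nm σ v) (v : Fin 3 → F) (hv : Om σ v) : Om σ (g *ᵥ v) := by
  have key : ∀ (h : Matrix (Fin 3) (Fin 3) F), h.det = 1 → Nr w h → (∀ v, Nm σ (h *ᵥ v) = Nm σ v) →
      (∃ k e : Fin 3, (e = 1 ∨ e = 2) ∧ h * Mx w 1 0 = ee w k • (Mx w e 0 * h)) → Om σ (h *ᵥ v) := by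
    intro h hd hnh hNh ⟨k, e, he, hX⟩
    obtain ⟨k', a, b, hY⟩ := hnh 0 1
    refine ⟨by rw [hNh]; exact hv.1, ?_⟩
    rw [mono hw h3 h24 hd he hX hY]
    exact hv.2
  have hA := Om_A h5 hw hσ (w := w)
  have hB := Om_B h5 hw hσ (w := w)
  have dA := det_A h5 hw
  have dB := det_B h5 hw
  have NA : ∀ v, Nm σ (Am w *ᵥ v) = Nm σ v := Nm_A h5 hw hσ
  have NB : ∀ v, Nm σ (Bm w *ᵥ v) = Nm σ v := Nm_B h5 hw hσ
  have step : ∀ (W : Matrix (Fin 3) (Fin 3) F), W.det = 1 → Nr w W → (∀ v, Nm σ (W *ᵥ v) = Nm σ v) →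
      (∀ v, Om σ (W *ᵥ v) ↔ Om σ v) → ∀ k a b l e : Fin 3, g * Mx w 1 0 = ee w k • (Mx w a b * g) →
      W * Mx w a b = ee w l • (Mx w e 0 * W) → (e = 1 ∨ e = 2) → Om σ (g *ᵥ v) := by
    intro W hWd hWn hWN hWO k a b l e h1 h2 he
    rw [← hWO, Matrix.mulVec_mulVec]
    refine key (W * g) (by rw [Matrix.det_mul, hWd, hdet, one_mul]) (hWn.mul hw hn) (fun v => ?_) ⟨k + l, e, he, ?_⟩
    · rw [← Matrix.mulVec_mulVec, hWN, hN]
    · rw [Matrix.mul_assoc, h1, Matrix.mul_smul, ← Matrix.mul_assoc, h2, Matrix.smul_mul, smul_smul, ← ee_add hw,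
        Matrix.mul_assoc]
  obtain ⟨k, a, b, h1⟩ := hn 1 0
  rcases g5 a b with ⟨rfl, rfl⟩ | ⟨rfl, ha⟩ | ⟨rfl, hb⟩ | ⟨rfl, ha⟩ | ⟨rfl, ha⟩
  · -- impossible
    exfalso
    rw [Mx_zero, Matrix.one_mul] at h1
    have hu : IsUnit g.det := by rw [hdet]; exact isUnit_one
    have h2 : Mx w 1 0 = ee w k • (1 : Matrix (Fin 3) (Fin 3) F) := by
      have := congrArg (fun M => g⁻¹ * M) h1
      simp only [Matrix.mul_smul, ← Matrix.mul_assoc, Matrix.nonsing_inv_mul g hu, Matrix.one_mul] at this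
      exact this
    have h3' := congrFun (congrFun h2 0) 0
    have h4 := congrFun (congrFun h2 1) 1
    simp [Mx] at h3' h4
    have h6 : (1 : Fin 3) = 0 := ee_inj hw h3 (h4.trans h3'.symm)
    exact absurd h6 (by decide)
  · exact key g hdet hn hN ⟨k, a, ha, h1⟩
  · refine step (Am w) dA (Nr_A hw) NA hA k 0 b _ b h1 (by rw [A_mul hw, neg_zero]) hb
  · obtain ⟨l, hl⟩ := B_mul hw a a
    rw [sub_self, g6 a] at hl
    exact step (Bm w) dB (Nr_B hw) NB hB k a a l a h1 hl ha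
  · obtain ⟨l, hl⟩ := B_mul hw (-a) (-a)
    refine step (Bm w * Am w) (by rw [Matrix.det_mul, dA, dB, one_mul]) ((Nr_B hw).mul hw (Nr_A hw))
      (fun v => by rw [← Matrix.mulVec_mulVec, NB, NA]) (fun v => by rw [← Matrix.mulVec_mulVec, hB, hA]) k a (-a)
      (a * (-a) + l) (-a) h1 ?_ ?_
    · rw [Matrix.mul_assoc, A_mul hw, Matrix.mul_smul, ← Matrix.mul_assoc, hl, Matrix.smul_mul, smul_smul, ← ee_add hw,
        sub_self, g6 (-a), Matrix.mul_assoc]
    · rcases ha with rfl | rfl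
      · right; rfl
      · left; rfl

end H85.U35N
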