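import Mathlib
import Cfsg.Agent.Lib.H97.AschNCU
import Cfsg.Agent.Lib.H97.AschCases
import Cfsg.Agent.Lib.H85.U35N

/-!
Symplectic-type groups of order 27 in the three-dimensional unitary group over 25 elements: normal form.
-/

set_option autoImplicit false
set_option linter.unusedSectionVars false
set_option linter.unusedVariables false
set_option linter.unusedSimpArgs false

namespace H85.U35R

open Cfsg Cfsg.Geo Matrix H97.AschNCU H97.AschCases
open H85.U35M H85.U35N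

variable {F : Type*} [Field F] [Fintype F] {q : ℕ} {σ : F ≃+* F}

lemma dec3 : ∀ j : Fin 3, j = 0 ∨ j = 1 ∨ j = 2 := by decide

lemma five (h : Ctx (F := F) σ 3 q) (hq : q = 5) : (5 : F) = 0 := by
  have h1 : Fintype.card F = 25 := by rw [h.card, hq]; norm_num
  have h2 : (25 : F) = 0 := by
    have := FiniteField.cast_card_eq_zero F
    rw [h1] at this
    exact_mod_cast this
  have h3 : (5 : F) * 5 = 0 := by linear_combination h2
  exact mul_self_eq_zero.mp h3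

lemma three (h : Ctx (F := F) σ 3 q) (hq : q = 5) : (3 : F) ≠ 0 := by
  intro h3
  have h5 := five h hq
  exact one_ne_zero (α := F) (by linear_combination 2 * h3 - h5)

lemma p24 (h : Ctx (F := F) σ 3 q) (hq : q = 5) (d : F) (hd : d ≠ 0) : d ^ 24 = 1 := by
  have h1 : Fintype.card F = 25 := by rw [h.card, hq]; norm_num
  have := FiniteField.pow_card_sub_one_eq_one d hd
  rwa [h1] at this

/-- the group theory -/
theorem basic {R : Subgroup (GL (Fin 3) F)} (h1 : IsSymplecticTypeGroup 3 R) (h2 : ActsAbsolutelyIrreducibly (matrixSet R))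
    (h4 : Nat.card R = 27) (h5 : Nat.card (Subgroup.center R) = 3) :
    (∀ r ∈ R, r ^ 3 = 1) ∧ ∃ w : F, w ^ 2 + w + 1 = 0 ∧ ∃ x ∈ R, ∃ y ∈ R, ∃ z ∈ R,
      (z : Matrix (Fin 3) (Fin 3) F) = w • 1 ∧
      (x : Matrix (Fin 3) (Fin 3) F) * (y : Matrix (Fin 3) (Fin 3) F) = w • ((y : Matrix (Fin 3) (Fin 3) F) * x) := by
  classical
  have hexp : ∀ r ∈ R, r ^ 3 = 1 := by
    intro r hr
    have h6 := Monoid.pow_exponent_eq_one (⟨r, hr⟩ : R)
    rw [h1.exponent_eq] at h6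
    have h7 : 3 * Nat.gcd 2 3 = 3 := by decide
    rw [h7] at h6
    exact congrArg Subtype.val h6
  refine ⟨hexp, ?_⟩
  have hna : ∃ x ∈ R, ∃ y ∈ R, x * y ≠ y * x := by
    by_contra hcon
    push Not at hcon
    have h6 : Subgroup.center R = ⊤ := by
      rw [eq_top_iff]
      intro x _
      rw [Subgroup.mem_center_iff]
      intro y
      exact Subtype.ext (hcon _ y.2 _ x.2)
    rw [h6, Subgroup.card_top, h4] at h5
    omega
  have hcomm : ∀ a b : R, a * b * a⁻¹ * b⁻¹ ∈ Subgroup.center R := by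
    have hq9 : Nat.card (R ⧸ Subgroup.center R) = 3 ^ 2 := by
      have := Subgroup.card_eq_card_quotient_mul_card_subgroup (Subgroup.center R)
      rw [h4, h5] at this
      omega
    haveI : Fact (Nat.Prime 3) := ⟨Nat.prime_three⟩
    have hc := IsPGroup.commutative_of_card_eq_prime_sq hq9
    intro a b
    rw [← QuotientGroup.eq_one_iff, QuotientGroup.mk_mul, QuotientGroup.mk_mul, QuotientGroup.mk_mul,
      QuotientGroup.mk_inv, QuotientGroup.mk_inv, hc (a : R ⧸ Subgroup.center R) b]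
    group
  have hsc : ∀ z : R, z ∈ Subgroup.center R → ∃ c : F, ((z : GL (Fin 3) F) : Matrix (Fin 3) (Fin 3) F) = c • 1 := by
    intro z hz
    apply h2.2
    rintro s ⟨g, hg, rfl⟩
    have h6 := Subgroup.mem_center_iff.mp hz ⟨g, hg⟩
    have h7 := congrArg (fun t : R => ((t : GL (Fin 3) F) : Matrix (Fin 3) (Fin 3) F)) h6
    simpa using h7.symm
  obtain ⟨x, hx, y, hy, hxy⟩ := hna
  obtain ⟨c, hc⟩ := hsc _ (hcomm ⟨x, hx⟩ ⟨y, hy⟩)
  have hz : x * y * x⁻¹ * y⁻¹ ∈ R := R.mul_mem (R.mul_mem (R.mul_mem hx hy) (R.inv_mem hx)) (R.inv_mem hy)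
  have hc' : ((x * y * x⁻¹ * y⁻¹ : GL (Fin 3) F) : Matrix (Fin 3) (Fin 3) F) = c • 1 := hc
  have hc3 : c ^ 3 = 1 := by
    have h6 := congrArg Units.val (hexp _ hz)
    rw [Units.val_pow_eq_pow_val, hc', smul_pow, one_pow, Units.val_one] at h6
    have h7 := congrFun (congrFun h6 0) 0
    simpa using h7
  have hne : c ≠ 1 := by
    rintro rfl
    apply hxy
    rw [one_smul] at hc'
    have h6 : x * y * x⁻¹ * y⁻¹ = 1 := Units.ext hc'
    have h7 := mul_inv_eq_one.mp h6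
    exact mul_inv_eq_iff_eq_mul.mp h7
  have hw : c ^ 2 + c + 1 = 0 := by
    have h6 : (c - 1) * (c ^ 2 + c + 1) = 0 := by linear_combination hc3
    rcases mul_eq_zero.mp h6 with h7 | h7
    · exact absurd (sub_eq_zero.mp h7) hne
    · exact h7
  refine ⟨c, hw, x, hx, y, hy, _, hz, hc', ?_⟩
  have h6 : x * y = (x * y * x⁻¹ * y⁻¹) * (y * x) := by group
  have h7 := congrArg Units.val h6
  rw [Units.val_mul, Units.val_mul _ (y * x), hc', Units.val_mul, Matrix.smul_mul, Matrix.one_mul] at h7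
  exact h7

/-- elements of order three are isometries -/
lemma isom_of_cube (h : Ctx (F := F) σ 3 q) (hq : q = 5) {r : GL (Fin 3) F} (hr : r ∈ similarityGroup (hermForm 3 F q))
    (h3 : r ^ 3 = 1) : ∀ u v, hermForm 3 F q ((r : Matrix (Fin 3) (Fin 3) F) *ᵥ u) ((r : Matrix (Fin 3) (Fin 3) F) *ᵥ v) =
      hermForm 3 F q u v := by
  obtain ⟨c, hc⟩ := hr
  have h1 : (c : F) ^ 3 = 1 := by
    have h2 : hermForm 3 F q ((r : Matrix (Fin 3) (Fin 3) F) *ᵥ ((r : Matrix (Fin 3) (Fin 3) F) *ᵥ ((r : Matrix (Fin 3) (Fin 3) F) *ᵥ Pi.single 0 1)))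
        ((r : Matrix (Fin 3) (Fin 3) F) *ᵥ ((r : Matrix (Fin 3) (Fin 3) F) *ᵥ ((r : Matrix (Fin 3) (Fin 3) F) *ᵥ Pi.single 0 1))) =
        (c : F) * ((c : F) * ((c : F) * hermForm 3 F q (Pi.single 0 1) (Pi.single 0 1))) := by
      rw [hc, hc, hc]
    have h4 : (r : Matrix (Fin 3) (Fin 3) F) *ᵥ ((r : Matrix (Fin 3) (Fin 3) F) *ᵥ ((r : Matrix (Fin 3) (Fin 3) F) *ᵥ Pi.single 0 1)) =
        Pi.single 0 1 := by
      rw [Matrix.mulVec_mulVec, Matrix.mulVec_mulVec]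
      have h6 := congrArg Units.val h3
      rw [Units.val_pow_eq_pow_val, Units.val_one] at h6
      rw [show (r : Matrix (Fin 3) (Fin 3) F) * r * r = (r : Matrix (Fin 3) (Fin 3) F) ^ 3 by noncomm_ring, h6, Matrix.one_mulVec]
    rw [h4, h.single, if_pos rfl] at h2
    linear_combination -h2
  have h2 : σ (c : F) = c := by
    have h4 := hc (Pi.single 0 1) (Pi.single 0 1)
    rw [h.single, if_pos rfl, mul_one] at h4
    rw [← h4]
    have h6 := h.form.herm ((r : Matrix (Fin 3) (Fin 3) F) *ᵥ Pi.single 0 1) ((r : Matrix (Fin 3) (Fin 3) F) *ᵥ Pi.single 0 1)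
    rw [one_mul] at h6
    exact h6.symm
  have h4 : (c : F) = 1 := by
    rw [h.val, hq] at h2
    have hc0 := c.ne_zero
    have h6 : (c : F) ^ 2 = c := by
      linear_combination -(c : F) ^ 2 * h1 + h2
    have h7 : (c : F) * ((c : F) - 1) = 0 := by linear_combination h6
    rcases mul_eq_zero.mp h7 with h8 | h8
    · exact absurd h8 hc0
    · exact sub_eq_zero.mp h8
  intro u v
  rw [hc, h4, one_mul]

/-- **the frame** -/
theorem frame (h : Ctx (F := F) σ 3 q) (hq : q = 5) {R : Subgroup (GL (Fin 3) F)}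
    (h1 : IsSymplecticTypeGroup 3 R) (h2 : ActsAbsolutelyIrreducibly (matrixSet R))
    (h3 : R ≤ similarityGroup (hermForm 3 F q)) (h4 : Nat.card R = 27) (h5 : Nat.card (Subgroup.center R) = 3) :
    ∃ w : F, w ^ 2 + w + 1 = 0 ∧ ∃ P : GL (Fin 3) F, P ∈ GU 3 F q ∧
      (∀ k a b, ∃ r ∈ R, (r : Matrix (Fin 3) (Fin 3) F) * (P : Matrix (Fin 3) (Fin 3) F) =
        ee w k • ((P : Matrix (Fin 3) (Fin 3) F) * Mx w a b)) := by
  classical
  have hS := h.form.sesq
  obtain ⟨hexp, w, hw, x, hx, y, hy, z, hz, hzm, hxy⟩ := basic h1 h2 h4 h5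
  have hw3 := w3 hw
  have f3 := three h hq
  have f5 := five h hq
  have ix := isom_of_cube h hq (h3 hx) (hexp x hx)
  have iy := isom_of_cube h hq (h3 hy) (hexp y hy)
  set X : Matrix (Fin 3) (Fin 3) F := (x : Matrix (Fin 3) (Fin 3) F) with hX
  set Y : Matrix (Fin 3) (Fin 3) F := (y : Matrix (Fin 3) (Fin 3) F) with hY
  have X3 : X * X * X = 1 := by
    have := congrArg Units.val (hexp x hx)
    rw [Units.val_pow_eq_pow_val, Units.val_one] at this
    rw [← this, hX]; noncomm_ring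
  have Y3 : Y * Y * Y = 1 := by
    have := congrArg Units.val (hexp y hy)
    rw [Units.val_pow_eq_pow_val, Units.val_one] at this
    rw [← this, hY]; noncomm_ring
  have Y3v : ∀ u, Y *ᵥ (Y *ᵥ (Y *ᵥ u)) = u := by
    intro u
    rw [Matrix.mulVec_mulVec, Matrix.mulVec_mulVec, Y3, Matrix.one_mulVec]
  have X3v : ∀ u, X *ᵥ (X *ᵥ (X *ᵥ u)) = u := by
    intro u
    rw [Matrix.mulVec_mulVec, Matrix.mulVec_mulVec, X3, Matrix.one_mulVec]
  have XYv : ∀ u, X *ᵥ (Y *ᵥ u) = w • (Y *ᵥ (X *ᵥ u)) := by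
    intro u
    rw [Matrix.mulVec_mulVec, hxy, Matrix.smul_mulVec, Matrix.mulVec_mulVec]
  have Yinj : ∀ u, Y *ᵥ u = 0 → u = 0 := by
    intro u hu
    rw [← Y3v u, hu, Matrix.mulVec_zero, Matrix.mulVec_zero]
  -- an eigenvector
  have hev : ∃ u : Fin 3 → F, u ≠ 0 ∧ X *ᵥ u = u := by
    have h6 : ∃ (j : Fin 3) (u : Fin 3 → F), u ≠ 0 ∧ X *ᵥ u = ee w j • u := by
      by_contra hcon
      push Not at hcon
      let u0 : Fin 3 → F := Pi.single 0 1
      have hu0 : u0 ≠ 0 := by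
        intro h0
        have := congrFun h0 0
        simp [u0] at this
      have e0 : u0 + X *ᵥ u0 + X *ᵥ (X *ᵥ u0) = 0 := by
        by_contra hne
        apply hcon 0 _ hne
        rw [Matrix.mulVec_add, Matrix.mulVec_add, X3v]
        have : ee w 0 = 1 := rfl
        rw [this, one_smul]
        abel
      have e1 : u0 + w ^ 2 • (X *ᵥ u0) + w • (X *ᵥ (X *ᵥ u0)) = 0 := by
        by_contra hne
        apply hcon 1 _ hne
        rw [Matrix.mulVec_add, Matrix.mulVec_add, Matrix.mulVec_smul, Matrix.mulVec_smul, X3v]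
        have : ee w 1 = w := rfl
        rw [this, smul_add, smul_add, smul_smul, smul_smul, show w * w ^ 2 = 1 by rw [← hw3]; ring, one_smul,
          show w * w = w ^ 2 by ring]
        abel
      have e2 : u0 + w • (X *ᵥ u0) + w ^ 2 • (X *ᵥ (X *ᵥ u0)) = 0 := by
        by_contra hne
        apply hcon 2 _ hne
        rw [Matrix.mulVec_add, Matrix.mulVec_add, Matrix.mulVec_smul, Matrix.mulVec_smul, X3v]
        have : ee w 2 = w ^ 2 := rfl
        rw [this, smul_add, smul_add, smul_smul, smul_smul, show w ^ 2 * w = 1 by rw [← hw3]; ring, one_smul,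
          show w ^ 2 * w ^ 2 = w by linear_combination w * hw3]
        abel
      apply hu0
      have e3 : (3 : F) • u0 = 0 := by
        ext i
        have a0 := congrFun e0 i
        have a1 := congrFun e1 i
        have a2 := congrFun e2 i
        simp only [Pi.add_apply, Pi.smul_apply, smul_eq_mul, Pi.zero_apply] at a0 a1 a2 ⊢
        linear_combination a0 + a1 + a2 - ((X *ᵥ u0) i + (X *ᵥ (X *ᵥ u0)) i) * hw
      exact (smul_eq_zero.mp e3).resolve_left f3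
    obtain ⟨j, u, hu, hXu⟩ := h6
    have hj := dec3 j
    rcases hj with rfl | rfl | rfl
    · exact ⟨u, hu, by rw [hXu]; exact one_smul _ _⟩
    · refine ⟨Y *ᵥ (Y *ᵥ u), fun h0 => hu (Yinj _ (Yinj _ h0)), ?_⟩
      have : ee w 1 = w := rfl
      rw [XYv, XYv, hXu, this, Matrix.mulVec_smul, Matrix.mulVec_smul, Matrix.mulVec_smul, smul_smul, smul_smul,
        show w * w * w = 1 by rw [← hw3]; ring, one_smul]
    · refine ⟨Y *ᵥ u, fun h0 => hu (Yinj _ h0), ?_⟩
      have : ee w 2 = w ^ 2 := rfl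
      rw [XYv, hXu, this, Matrix.mulVec_smul, smul_smul, show w * w ^ 2 = 1 by rw [← hw3]; ring, one_smul]
  obtain ⟨u, hu, hXu⟩ := hev
  have hX1 : X *ᵥ (Y *ᵥ u) = w • (Y *ᵥ u) := by rw [XYv, hXu]
  have hX2 : X *ᵥ (Y *ᵥ (Y *ᵥ u)) = w ^ 2 • (Y *ᵥ (Y *ᵥ u)) := by
    rw [XYv, hX1, Matrix.mulVec_smul, smul_smul, show w * w = w ^ 2 by ring]
  have hu1 : Y *ᵥ u ≠ 0 := fun h0 => hu (Yinj _ h0)
  have hu2 : Y *ᵥ (Y *ᵥ u) ≠ 0 := fun h0 => hu1 (Yinj _ h0)
  have hσw : σ w = w ^ 2 := by rw [h.val, hq]; linear_combination w ^ 2 * hw3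
  have hwne : w ≠ 1 := by
    rintro rfl
    exact f3 (by linear_combination hw)
  have hw2ne : w ^ 2 ≠ 1 := fun h0 => hwne (by linear_combination hw3 - w * h0)
  -- orthogonality
  have orth : ∀ (a b : Fin 3 → F) (s t : F), X *ᵥ a = s • a → X *ᵥ b = t • b → s * σ t ≠ 1 → hermForm 3 F q a b = 0 := by
    intro a b s t ha hb hst
    have h6 := ix a b
    rw [ha, hb, hS.smul_left, hS.smul_right] at h6
    have h7 : (s * σ t - 1) * hermForm 3 F q a b = 0 := by linear_combination h6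
    exact (mul_eq_zero.mp h7).resolve_left (sub_ne_zero.mpr hst)
  have hX0 : X *ᵥ u = (1 : F) • u := by rw [hXu, one_smul]
  have hs2 : σ (w ^ 2) = w := by rw [map_pow, hσw]; linear_combination w * hw3
  have o01 : hermForm 3 F q u (Y *ᵥ u) = 0 := orth _ _ _ _ hX0 hX1 (by rw [one_mul, hσw]; exact hw2ne)
  have o02 : hermForm 3 F q u (Y *ᵥ (Y *ᵥ u)) = 0 := orth _ _ _ _ hX0 hX2 (by rw [one_mul, hs2]; exact hwne)
  have o10 : hermForm 3 F q (Y *ᵥ u) u = 0 := orth _ _ _ _ hX1 hX0 (by rw [map_one, mul_one]; exact hwne)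
  have o20 : hermForm 3 F q (Y *ᵥ (Y *ᵥ u)) u = 0 := orth _ _ _ _ hX2 hX0 (by rw [map_one, mul_one]; exact hw2ne)
  have o12 : hermForm 3 F q (Y *ᵥ u) (Y *ᵥ (Y *ᵥ u)) = 0 :=
    orth _ _ _ _ hX1 hX2 (by rw [hs2, show w * w = w ^ 2 by ring]; exact hw2ne)
  have o21 : hermForm 3 F q (Y *ᵥ (Y *ᵥ u)) (Y *ᵥ u) = 0 :=
    orth _ _ _ _ hX2 hX1 (by rw [hσw, show w ^ 2 * w ^ 2 = w by linear_combination w * hw3]; exact hwne)
  have d1 : hermForm 3 F q (Y *ᵥ u) (Y *ᵥ u) = hermForm 3 F q u u := iy _ _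
  have d2 : hermForm 3 F q (Y *ᵥ (Y *ᵥ u)) (Y *ᵥ (Y *ᵥ u)) = hermForm 3 F q u u := by rw [iy, iy]
  -- independence
  have hli : ∀ a b c : F, a • u + b • (Y *ᵥ u) + c • (Y *ᵥ (Y *ᵥ u)) = 0 → a = 0 ∧ b = 0 ∧ c = 0 := by
    intro a b c h0
    have h6 := congrArg (fun t => X *ᵥ t) h0
    simp only [Matrix.mulVec_add, Matrix.mulVec_smul, hXu, hX1, hX2, Matrix.mulVec_zero] at h6
    have h7 := congrArg (fun t => X *ᵥ t) h6
    simp only [Matrix.mulVec_add, Matrix.mulVec_smul, hXu, hX1, hX2, Matrix.mulVec_zero] at h7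
    have k1 : (3 * a) • u = 0 := by
      ext i
      have a0 := congrFun h0 i
      have a1 := congrFun h6 i
      have a2 := congrFun h7 i
      simp only [Pi.add_apply, Pi.smul_apply, smul_eq_mul, Pi.zero_apply] at a0 a1 a2 ⊢
      linear_combination a0 + a1 + a2 - (b * (Y *ᵥ u) i + c * (Y *ᵥ (Y *ᵥ u)) i) * hw - c * (Y *ᵥ (Y *ᵥ u)) i * w * hw3
    have k2 : (3 * b) • (Y *ᵥ u) = 0 := by
      ext i
      have a0 := congrFun h0 i
      have a1 := congrFun h6 i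
      have a2 := congrFun h7 i
      simp only [Pi.add_apply, Pi.smul_apply, smul_eq_mul, Pi.zero_apply] at a0 a1 a2 ⊢
      linear_combination a0 + w ^ 2 * a1 + w * a2 - (a * u i + c * (Y *ᵥ (Y *ᵥ u)) i) * hw
        - (2 * b * (Y *ᵥ u) i + c * (Y *ᵥ (Y *ᵥ u)) i * (w + w ^ 2)) * hw3
    have k3 : (3 * c) • (Y *ᵥ (Y *ᵥ u)) = 0 := by
      ext i
      have a0 := congrFun h0 i
      have a1 := congrFun h6 i
      have a2 := congrFun h7 i
      simp only [Pi.add_apply, Pi.smul_apply, smul_eq_mul, Pi.zero_apply] at a0 a1 a2 ⊢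
      linear_combination a0 + w * a1 + w ^ 2 * a2 - (a * u i + b * (Y *ᵥ u) i) * hw
        - (b * (Y *ᵥ u) i * w + c * (Y *ᵥ (Y *ᵥ u)) i * (w ^ 3 + 2)) * hw3
    refine ⟨?_, ?_, ?_⟩
    · exact (mul_eq_zero.mp ((smul_eq_zero.mp k1).resolve_right hu)).resolve_left f3
    · exact (mul_eq_zero.mp ((smul_eq_zero.mp k2).resolve_right hu1)).resolve_left f3
    · exact (mul_eq_zero.mp ((smul_eq_zero.mp k3).resolve_right hu2)).resolve_left f3
  -- the matrix of the frame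
  have hP0 : ∀ μ : F, ∀ a : Fin 3 → F, (Matrix.of (fun i j : Fin 3 => μ * (![u, Y *ᵥ u, Y *ᵥ (Y *ᵥ u)] j) i)) *ᵥ a =
      (μ * a 0) • u + (μ * a 1) • (Y *ᵥ u) + (μ * a 2) • (Y *ᵥ (Y *ᵥ u)) := by
    intro μ a
    ext i
    simp only [Matrix.mulVec, dotProduct, Fin.sum_univ_three, Matrix.of_apply, Matrix.cons_val_zero, Matrix.cons_val_one,
      Matrix.cons_val, Pi.add_apply, Pi.smul_apply, smul_eq_mul]
    ring
  have hdet : ∀ μ : F, μ ≠ 0 → (Matrix.of (fun i j : Fin 3 => μ * (![u, Y *ᵥ u, Y *ᵥ (Y *ᵥ u)] j) i)).det ≠ 0 := by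
    intro μ hμ h0
    obtain ⟨a, ha, ha0⟩ := Matrix.exists_mulVec_eq_zero_iff.mpr h0
    rw [hP0] at ha0
    obtain ⟨b0, b1, b2⟩ := hli _ _ _ ha0
    apply ha
    ext i
    have := dec3 i
    rcases this with rfl | rfl | rfl
    · exact (mul_eq_zero.mp b0).resolve_left hμ
    · exact (mul_eq_zero.mp b1).resolve_left hμ
    · exact (mul_eq_zero.mp b2).resolve_left hμ
  have hδ : hermForm 3 F q u u ≠ 0 := by
    intro h0
    obtain ⟨v, hv⟩ := h.form.nd u hu
    apply hv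
    have hun := (hdet 1 one_ne_zero).isUnit
    set P1 : Matrix (Fin 3) (Fin 3) F := Matrix.of (fun i j : Fin 3 => 1 * (![u, Y *ᵥ u, Y *ᵥ (Y *ᵥ u)] j) i) with hP1
    have h6 : v = P1 *ᵥ (P1⁻¹ *ᵥ v) := by
      rw [Matrix.mulVec_mulVec, Matrix.mul_nonsing_inv _ hun, Matrix.one_mulVec]
    rw [h6, hP1, hP0, hS.add_right, hS.add_right, hS.smul_right, hS.smul_right, hS.smul_right, h0, o01, o02]
    ring
  obtain ⟨μ, hμ0, hμ⟩ := h.norm (inv_ne_zero hδ) (by
    rw [map_inv₀]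
    have h6 := h.form.herm u u
    rw [one_mul] at h6
    rw [← h6])
  set P : GL (Fin 3) F := Matrix.GeneralLinearGroup.mkOfDetNeZero _ (hdet μ hμ0) with hP
  have hPv : ∀ a : Fin 3 → F, (P : Matrix (Fin 3) (Fin 3) F) *ᵥ a =
      (μ * a 0) • u + (μ * a 1) • (Y *ᵥ u) + (μ * a 2) • (Y *ᵥ (Y *ᵥ u)) := fun a => hP0 μ a
  have hext : ∀ A B : Matrix (Fin 3) (Fin 3) F, (∀ a, A *ᵥ a = B *ᵥ a) → A = B := by
    intro A B hAB
    apply Matrix.toLin'.injective
    apply LinearMap.ext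
    intro a
    rw [Matrix.toLin'_apply, Matrix.toLin'_apply, hAB]
  have hXP : X * (P : Matrix (Fin 3) (Fin 3) F) = (P : Matrix (Fin 3) (Fin 3) F) * Mx w 1 0 := by
    apply hext
    intro a
    have h6 : Mx w 1 0 *ᵥ a = ![a 0, w * a 1, w ^ 2 * a 2] := by
      ext i
      fin_cases i <;> simp [Matrix.mulVec, dotProduct, Fin.sum_univ_three, Mx, ee]
    rw [← Matrix.mulVec_mulVec, ← Matrix.mulVec_mulVec, h6, hPv, hPv]
    simp only [Matrix.mulVec_add, Matrix.mulVec_smul, hXu, hX1, hX2, Matrix.cons_val_zero, Matrix.cons_val_one,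
      Matrix.cons_val, smul_smul]
    congr 1
    · congr 1
      congr 1
      ring
    · congr 1
      ring
  have hYP : Y * (P : Matrix (Fin 3) (Fin 3) F) = (P : Matrix (Fin 3) (Fin 3) F) * Mx w 0 1 := by
    apply hext
    intro a
    have h6 : Mx w 0 1 *ᵥ a = ![a 2, a 0, a 1] := by
      ext i
      fin_cases i <;> simp [Matrix.mulVec, dotProduct, Fin.sum_univ_three, Mx, ee]
    rw [← Matrix.mulVec_mulVec, ← Matrix.mulVec_mulVec, h6, hPv, hPv]
    simp only [Matrix.mulVec_add, Matrix.mulVec_smul, Y3v, Matrix.cons_val_zero, Matrix.cons_val_one,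
      Matrix.cons_val]
    abel
  refine ⟨w, hw, P, ?_, ?_⟩
  · intro a b
    change hermForm 3 F q ((P : Matrix (Fin 3) (Fin 3) F) *ᵥ a) ((P : Matrix (Fin 3) (Fin 3) F) *ᵥ b) = hermForm 3 F q a b
    rw [hPv, hPv]
    simp only [hS.add_left, hS.add_right, hS.smul_left, hS.smul_right, o01, o02, o10, o20, o12, o21, d1, d2, map_mul]
    have h6 : hermForm 3 F q a b = a 0 * σ (b 0) + a 1 * σ (b 1) + a 2 * σ (b 2) := by
      simp only [hermForm, Fin.sum_univ_three, h.val]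
    rw [h6]
    have h7 : μ * σ μ * hermForm 3 F q u u = 1 := by rw [hμ]; exact inv_mul_cancel₀ hδ
    linear_combination (a 0 * σ (b 0) + a 1 * σ (b 1) + a 2 * σ (b 2)) * h7
  · have hXm : ∀ (M : Matrix (Fin 3) (Fin 3) F) (r : GL (Fin 3) F), r ∈ R → (r : Matrix (Fin 3) (Fin 3) F) * P = P * M →
        ∃ r' ∈ R, (r' : Matrix (Fin 3) (Fin 3) F) * P = P * (Mx w 1 0 * M) := by
      intro M r hr h6
      refine ⟨x * r, R.mul_mem hx hr, ?_⟩
      rw [Units.val_mul, Matrix.mul_assoc, h6, ← Matrix.mul_assoc, hXP, Matrix.mul_assoc]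
    have hYm : ∀ (M : Matrix (Fin 3) (Fin 3) F) (r : GL (Fin 3) F), r ∈ R → (r : Matrix (Fin 3) (Fin 3) F) * P = P * M →
        ∃ r' ∈ R, (r' : Matrix (Fin 3) (Fin 3) F) * P = P * (Mx w 0 1 * M) := by
      intro M r hr h6
      refine ⟨y * r, R.mul_mem hy hr, ?_⟩
      rw [Units.val_mul, Matrix.mul_assoc, h6, ← Matrix.mul_assoc, hYP, Matrix.mul_assoc]
    have hZm : ∀ (M : Matrix (Fin 3) (Fin 3) F) (r : GL (Fin 3) F), r ∈ R → (r : Matrix (Fin 3) (Fin 3) F) * P = P * M →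
        ∃ r' ∈ R, (r' : Matrix (Fin 3) (Fin 3) F) * P = P * (w • M) := by
      intro M r hr h6
      refine ⟨z * r, R.mul_mem hz hr, ?_⟩
      rw [Units.val_mul, Matrix.mul_assoc, h6, hzm, Matrix.smul_mul, Matrix.one_mul, Matrix.mul_smul]
    have hb : ∀ b : Fin 3, ∃ r ∈ R, (r : Matrix (Fin 3) (Fin 3) F) * P = P * Mx w 0 b := by
      have s0 : ∃ r ∈ R, (r : Matrix (Fin 3) (Fin 3) F) * P = P * Mx w 0 0 :=
        ⟨1, R.one_mem, by rw [Mx_zero, Units.val_one, Matrix.one_mul, Matrix.mul_one]⟩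
      have step : ∀ b : Fin 3, (∃ r ∈ R, (r : Matrix (Fin 3) (Fin 3) F) * P = P * Mx w 0 b) →
          ∃ r ∈ R, (r : Matrix (Fin 3) (Fin 3) F) * P = P * Mx w 0 (1 + b) := by
        rintro b ⟨r, hr, h6⟩
        obtain ⟨r', hr', h7⟩ := hYm _ r hr h6
        refine ⟨r', hr', ?_⟩
        rw [h7, Mx_mul hw]
        have : ee w (-(0 * 1)) = 1 := rfl
        rw [this, one_smul, add_zero]
      intro b
      have hb := dec3 b
      rcases hb with rfl | rfl | rfl
      · exact s0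
      · exact step 0 s0
      · exact step 1 (step 0 s0)
    have hab : ∀ a b : Fin 3, ∃ r ∈ R, (r : Matrix (Fin 3) (Fin 3) F) * P = P * Mx w a b := by
      intro a b
      have step : ∀ a : Fin 3, (∃ r ∈ R, (r : Matrix (Fin 3) (Fin 3) F) * P = P * Mx w a b) →
          ∃ r ∈ R, (r : Matrix (Fin 3) (Fin 3) F) * P = P * Mx w (1 + a) b := by
        rintro a ⟨r, hr, h6⟩
        obtain ⟨r', hr', h7⟩ := hXm _ r hr h6
        refine ⟨r', hr', ?_⟩
        rw [h7, Mx_mul hw]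
        have : ee w (-(a * 0)) = 1 := by rw [mul_zero]; rfl
        rw [this, one_smul, zero_add]
      have ha := dec3 a
      rcases ha with rfl | rfl | rfl
      · exact hb b
      · exact step 0 (hb b)
      · exact step 1 (step 0 (hb b))
    intro k a b
    obtain ⟨r, hr, h6⟩ := hab a b
    obtain ⟨r1, hr1, h7⟩ := hZm _ r hr h6
    obtain ⟨r2, hr2, h8⟩ := hZm _ r1 hr1 h7
    have hk := dec3 k
    rcases hk with rfl | rfl | rfl
    · exact ⟨r, hr, by rw [h6]; exact (one_smul F _).symm⟩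
    · exact ⟨r1, hr1, by rw [h7, Matrix.mul_smul]; rfl⟩
    · refine ⟨r2, hr2, ?_⟩
      rw [h8, Matrix.mul_smul, Matrix.mul_smul, smul_smul]
      have : ee w 2 = w ^ 2 := rfl
      rw [this, show w * w = w ^ 2 by ring]

end H85.U35R
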