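import Mathlib
import Cfsg.Agent.Lib.H85.U35N

/-!
The Heisenberg group of order 27 and its normaliser in `SL_3(25)`: the extra involution.
-/

set_option autoImplicit false
set_option maxRecDepth 8000
set_option linter.unusedSectionVars false
set_option linter.unusedVariables false
set_option linter.unusedSimpArgs false

namespace H85.U35S

open Matrix H85.U35P H85.U35M H85.U35N

variable {F : Type*} [Field F] {w : F}

/-- the form -/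
def Fm (σ : F ≃+* F) (v u : Fin 3 → F) : F := v 0 * σ (u 0) + v 1 * σ (u 1) + v 2 * σ (u 2)

/-- the involution -/
def Sm (w : F) : Matrix (Fin 3) (Fin 3) F := !![0, -(2 * w + 1), -(2 * w + 1); 2 * w + 1, 2, 3; 2 * w + 1, 3, 2]

lemma S_vec (v : Fin 3 → F) : Sm w *ᵥ v = ![-(2 * w + 1) * (v 1 + v 2), (2 * w + 1) * v 0 + 2 * v 1 + 3 * v 2,
    (2 * w + 1) * v 0 + 3 * v 1 + 2 * v 2] := by
  ext i
  fin_cases i <;> simp [Matrix.mulVec, dotProduct, Fin.sum_univ_three, Sm] <;> ring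

lemma det_S (h5 : (5 : F) = 0) (hw : w ^ 2 + w + 1 = 0) : (Sm w).det = 1 := by
  rw [Matrix.det_fin_three]
  simp only [Sm, Matrix.of_apply, Matrix.cons_val_zero, Matrix.cons_val_one, Matrix.cons_val, Matrix.cons_val']
  linear_combination (1) * h5 + ((-8)) * hw

lemma Fm_S {σ : F ≃+* F} (hσ : ∀ x, σ x = x ^ 5) (h5 : (5 : F) = 0) (hw : w ^ 2 + w + 1 = 0) (v u : Fin 3 → F) :
    Fm σ (Sm w *ᵥ v) (Sm w *ᵥ u) = Fm σ v u := by
  have hs := σw hw hσ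
  have s3 : σ 3 = 3 := map_ofNat σ 3
  have s2 : σ 2 = 2 := map_ofNat σ 2
  rw [S_vec, S_vec]
  simp only [Fm, Matrix.cons_val_zero, Matrix.cons_val_one, Matrix.cons_val, map_add, map_mul, map_pow, map_neg, map_one,
    hs, s3, s2]
  linear_combination (2*w*(v 0)*(σ (u 1)) + 2*w*(v 0)*(σ (u 2)) + (-2)*w*(v 1)*(σ (u 0)) + (-2)*w*(v 2)*(σ (u 0)) + 1*(v 0)*(σ (u 0)) + 1*(v 0)*(σ (u 1)) + 1*(v 0)*(σ (u 2)) + (-1)*(v 1)*(σ (u 0)) + 3*(v 1)*(σ (u 1)) + 3*(v 1)*(σ (u 2)) + (-1)*(v 2)*(σ (u 0)) + 3*(v 2)*(σ (u 1)) + 3*(v 2)*(σ (u 2))) * h5 + (8*w*(v 0)*(σ (u 0)) + 4*w*(v 1)*(σ (u 1)) + 4*w*(v 1)*(σ (u 2)) + 4*w*(v 2)*(σ (u 1)) + 4*w*(v 2)*(σ (u 2)) + (-4)*(v 0)*(σ (u 0)) + 10*(v 1)*(σ (u 0)) + (-2)*(v 1)*(σ (u 1)) + (-2)*(v 1)*(σ (u 2)) + 10*(v 2)*(σ (u 0)) + (-2)*(v 2)*(σ (u 1)) + (-2)*(v 2)*(σ (u 2))) * hw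

lemma Phi_th (h5 : (5 : F) = 0) (hw : w ^ 2 + w + 1 = 0) (p q : F) :
    Phi (-(2 * w + 1) * p) (-(2 * w + 1) * q) = -Phi p q := by
  unfold Phi
  linear_combination (2*p^4 + 2*p^3*q + (-2)*p^2*q^2 + 4*p*q^3 + (-2)*q^4) * h5 + (16*w^2*p^4 + 16*w^2*p^3*q + (-16)*w^2*p^2*q^2 + 32*w^2*p*q^3 + (-16)*w^2*q^4 + 16*w*p^4 + 16*w*p^3*q + (-16)*w*p^2*q^2 + 32*w*p*q^3 + (-16)*w*q^4 + (-8)*p^4 + (-8)*p^3*q + 8*p^2*q^2 + (-16)*p*q^3 + 8*q^4) * hw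

lemma Nm_six {σ : F ≃+* F} (hσ : ∀ x, σ x = x ^ 5) (v : Fin 3 → F) : Nm σ v = (v 0) ^ 6 + (v 1) ^ 6 + (v 2) ^ 6 := by
  simp only [Nm, hσ]
  ring

lemma Om_S {σ : F ≃+* F} (hσ : ∀ x, σ x = x ^ 5) (h5 : (5 : F) = 0) (hw : w ^ 2 + w + 1 = 0) (v : Fin 3 → F)
    (hv : Om σ v) : Om σ (Sm w *ᵥ v) := by
  refine ⟨?_, ?_⟩
  · have h1 : ∀ v, Nm σ v = Fm σ v v := fun _ => rfl
    rw [h1, Fm_S hσ h5 hw, ← h1]
    exact hv.1
  · have e1 : pv (Sm w *ᵥ v) = -(2 * w + 1) * ((v 0) ^ 3 + 2 * (v 1 + v 2) ^ 3 + (v 0) * (v 1 - v 2) ^ 2) := by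
      rw [S_vec]
      simp only [pv, Matrix.cons_val_zero, Matrix.cons_val_one, Matrix.cons_val]
      linear_combination ((-2)*w*(v 0)^3 + 16*w*(v 0)*(v 1)^2 + 28*w*(v 0)*(v 1)*(v 2) + 16*w*(v 0)*(v 2)^2 + 2*w*(v 1)^3 + 6*w*(v 1)^2*(v 2) + 6*w*(v 1)*(v 2)^2 + 2*w*(v 2)^3 + (-1)*(v 0)^3 + (-9)*(v 0)^2*(v 1) + (-9)*(v 0)^2*(v 2) + 8*(v 0)*(v 1)^2 + 14*(v 0)*(v 1)*(v 2) + 8*(v 0)*(v 2)^2 + 8*(v 1)^3 + 21*(v 1)^2*(v 2) + 21*(v 1)*(v 2)^2 + 8*(v 2)^3) * h5 + (16*w*(v 0)^3 + (-8)*w*(v 1)^3 + (-24)*w*(v 1)^2*(v 2) + (-24)*w*(v 1)*(v 2)^2 + (-8)*w*(v 2)^3 + 8*(v 0)^3 + 60*(v 0)^2*(v 1) + 60*(v 0)^2*(v 2) + (-4)*(v 1)^3 + (-12)*(v 1)^2*(v 2) + (-12)*(v 1)*(v 2)^2 + (-4)*(v 2)^3) * hw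
    have e2 : qv (Sm w *ᵥ v) = -(2 * w + 1) * ((v 1 + v 2) * ((v 1 - v 2) ^ 2 + 2 * (v 0) ^ 2)) := by
      rw [S_vec]
      simp only [qv, Matrix.cons_val_zero, Matrix.cons_val_one, Matrix.cons_val]
      linear_combination (2*w*(v 0)^2*(v 1) + 2*w*(v 0)^2*(v 2) + (-2)*w*(v 1)^3 + (-8)*w*(v 1)^2*(v 2) + (-8)*w*(v 1)*(v 2)^2 + (-2)*w*(v 2)^3 + 1*(v 0)^2*(v 1) + 1*(v 0)^2*(v 2) + 3*(v 0)*(v 1)^2 + 6*(v 0)*(v 1)*(v 2) + 3*(v 0)*(v 2)^2 + (-1)*(v 1)^3 + (-4)*(v 1)^2*(v 2) + (-4)*(v 1)*(v 2)^2 + (-1)*(v 2)^3) * h5 + ((-8)*w*(v 0)^2*(v 1) + (-8)*w*(v 0)^2*(v 2) + (-4)*(v 0)^2*(v 1) + (-4)*(v 0)^2*(v 2) + (-20)*(v 0)*(v 1)^2 + (-40)*(v 0)*(v 1)*(v 2) + (-20)*(v 0)*(v 2)^2) * hw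
    have e3 : pv v = (v 0) ^ 3 - (v 1 + v 2) ^ 3 + 2 * (v 1 + v 2) * (v 1 - v 2) ^ 2 := by
      simp only [pv]
      linear_combination (1*(v 1)^2*(v 2) + 1*(v 1)*(v 2)^2) * h5
    have e4 : qv v = (v 0) * ((v 1 - v 2) ^ 2 - (v 1 + v 2) ^ 2) := by
      simp only [qv]
      linear_combination (1*(v 0)*(v 1)*(v 2)) * h5
    have e5 : (v 0) ^ 6 - 2 * (v 1 + v 2) ^ 6 - 2 * ((v 1 - v 2) ^ 2) ^ 3 = 0 := by
      have h1 := hv.1
      rw [Nm_six hσ] at h1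
      have h2 : (v 0) ^ 6 + (v 1) ^ 6 + (v 2) ^ 6 = (v 0) ^ 6 - 2 * (v 1 + v 2) ^ 6 - 2 * ((v 1 - v 2) ^ 2) ^ 3 := by
        linear_combination (1*(v 1)^6 + 12*(v 1)^4*(v 2)^2 + 12*(v 1)^2*(v 2)^4 + 1*(v 2)^6) * h5
      rw [← h2, h1]
    rw [e1, e2, Phi_th h5 hw, S_core h5, ← e3, ← e4, hv.2, e5, zero_mul, add_zero]

/-- the test vector -/
lemma Om_test {σ : F ≃+* F} (hσ : ∀ x, σ x = x ^ 5) (h5 : (5 : F) = 0) (hw : w ^ 2 + w + 1 = 0) :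
    Om σ ![1, 2 * w + 1, 1] ∧ ¬ Om σ ![-1, -(2 * w + 1), 1] := by
  have hs := σw hw hσ
  have s2 : σ 2 = 2 := map_ofNat σ 2
  refine ⟨⟨?_, ?_⟩, ?_⟩
  · simp only [Nm, Matrix.cons_val_zero, Matrix.cons_val_one, Matrix.cons_val, map_add, map_mul, map_pow, map_one, hs, s2]
    linear_combination (1) * h5 + (4*w + (-2)) * hw
  · simp only [pv, qv, Matrix.cons_val_zero, Matrix.cons_val_one, Matrix.cons_val]
    unfold Phi
    linear_combination (140*w + 36) * h5 + (4096*w^10 + 20480*w^9 + 44032*w^8 + 57344*w^7 + 55040*w^6 + 40960*w^5 + 22144*w^4 + 9664*w^3 + 3936*w^2 + 208*w + (-76)) * hw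
  · rintro ⟨-, h⟩
    have h1 : Phi (pv ![-1, -(2 * w + 1), 1]) (qv ![-1, -(2 * w + 1), 1]) = 1 := by
      simp only [pv, qv, Matrix.cons_val_zero, Matrix.cons_val_one, Matrix.cons_val]
      unfold Phi
      linear_combination (187) * h5 + (4096*w^10 + 20480*w^9 + 41984*w^8 + 45056*w^7 + 27904*w^6 + 12032*w^5 + 3840*w^4 + (-768)*w^3 + (-128)*w^2 + 896*w + (-940)) * hw
    rw [h1] at h
    exact one_ne_zero h

/-- the involution does not normalise -/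
lemma not_Nr (h5 : (5 : F) = 0) (hw : w ^ 2 + w + 1 = 0) (h3 : (3 : F) ≠ 0) : ¬ Nr w (Sm w) := by
  intro hn
  obtain ⟨k, c, d, h⟩ := hn 1 0
  have hth : (2 * w + 1 : F) ≠ 0 := by
    intro h0
    apply h3
    linear_combination -(2 * w + 1) * h0 + 4 * hw
  have key : ∀ i j, Sm w i j * ee w (1 * j) = ee w k * (ee w (c * i) * Sm w (i - d) j) := by
    intro i j
    have h1 := congrFun (congrFun h i) j
    rw [Matrix.smul_apply, Matrix.mul_apply, Matrix.mul_apply, Finset.sum_eq_single j, Finset.sum_eq_single (i - d)] at h1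
    · simp only [Mx, add_zero, if_true, smul_eq_mul] at h1
      rw [if_pos (f4 i d).symm] at h1
      exact h1
    · intro l _ hl
      simp only [Mx]
      rw [if_neg (by intro h; apply hl; rw [h]; exact (f3 l d).symm), zero_mul]
    · intro h; exact absurd (Finset.mem_univ _) h
    · intro l _ hl
      simp only [Mx, add_zero]
      rw [if_neg hl, mul_zero]
    · intro h; exact absurd (Finset.mem_univ _) h
  have k0 := key 0 0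
  have s00 : Sm w 0 0 = 0 := rfl
  have s10 : Sm w 1 0 = 2 * w + 1 := rfl
  have s20 : Sm w 2 0 = 2 * w + 1 := rfl
  have s01 : Sm w 0 1 = -(2 * w + 1) := rfl
  have s02 : Sm w 0 2 = -(2 * w + 1) := rfl
  rw [s00, zero_mul] at k0
  have hd : d = 0 := by
    have h1 : Sm w (0 - d) 0 = 0 := by
      rcases mul_eq_zero.mp k0.symm with h | h
      · exact absurd h (ee_ne hw k)
      · rcases mul_eq_zero.mp h with h | h
        · exact absurd h (ee_ne hw _)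
        · exact h
    have h2 : ∀ d : Fin 3, d ≠ 0 → Sm w (0 - d) 0 ≠ 0 := by
      intro d hd
      have : (0 - d = 1) ∨ (0 - d = 2) := by revert hd; revert d; decide
      rcases this with h | h
      · rw [h, s10]; exact hth
      · rw [h, s20]; exact hth
    by_contra hne
    exact h2 d hne h1
  subst hd
  have k1 := key 0 1
  have k2 := key 0 2
  rw [sub_zero, mul_zero, s01] at k1
  rw [sub_zero, mul_zero, s02] at k2
  have e0 : ee w 0 = 1 := rfl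
  rw [e0, one_mul] at k1 k2
  have k3 : ee w (1 * 1) = ee w k := by
    apply mul_left_cancel₀ hth
    have h1 : ee w (1 * 1) = ee w 1 := rfl
    rw [h1]
    linear_combination -k1
  have k4 : ee w (1 * 2) = ee w k := by
    apply mul_left_cancel₀ hth
    have h1 : ee w (1 * 2) = ee w 2 := rfl
    rw [h1]
    linear_combination -k2
  have := ee_inj hw h3 (k3.trans k4.symm)
  exact absurd this (by decide)

end H85.U35S
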