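import Mathlib
import Cfsg.Agent.Lib.H85.U35R
import Cfsg.Agent.Lib.H85.U35S

/-!
Symplectic-type groups of order 27 in the three-dimensional unitary group over 25 elements: their normalisers are not maximal.
-/

set_option autoImplicit false
set_option linter.unusedSectionVars false
set_option linter.unusedVariables false
set_option linter.unusedSimpArgs false

namespace H85.U35C

open Cfsg Cfsg.Geo Matrix H97.AschNCU H97.AschCases
open H85.U35M H85.U35N H85.U35R H85.U35S

variable {F : Type*} [Field F] [Fintype F] {q : ℕ} {σ : F ≃+* F}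

lemma herm_eq (h : Ctx (F := F) σ 3 q) (a b : Fin 3 → F) : hermForm 3 F q a b = Fm σ a b := by
  simp only [hermForm, Fin.sum_univ_three, h.val, Fm]

lemma Nm_eq (h : Ctx (F := F) σ 3 q) (a : Fin 3 → F) : Nm σ a = hermForm 3 F q a a := (herm_eq h a a).symm

lemma g7 : ∀ k a b k' a' : Fin 3, k + a * b = k' + a' * b → k + a * (1 + b) = k' + a' * (1 + b) → k = k' ∧ a = a' := by
  decide

/-- the stabiliser of the configuration in the frame -/
def stab (σ : F ≃+* F) (P : GL (Fin 3) F) : Subgroup (GL (Fin 3) F) where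
  carrier := {g | ∀ v, Om σ (((P⁻¹ * g * P : GL (Fin 3) F) : Matrix (Fin 3) (Fin 3) F) *ᵥ v) ↔ Om σ v}
  one_mem' := fun v => by rw [mul_one, inv_mul_cancel, Units.val_one, Matrix.one_mulVec]
  mul_mem' := by
    intro a b ha hb v
    have h1 : P⁻¹ * (a * b) * P = (P⁻¹ * a * P) * (P⁻¹ * b * P) := by group
    rw [h1, Units.val_mul, ← Matrix.mulVec_mulVec, ha, hb]
  inv_mem' := by
    intro a ha v
    have h1 := ha (((P⁻¹ * a⁻¹ * P : GL (Fin 3) F) : Matrix (Fin 3) (Fin 3) F) *ᵥ v)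
    have h2 : (P⁻¹ * a * P) * (P⁻¹ * a⁻¹ * P) = 1 := by group
    rw [Matrix.mulVec_mulVec, ← Units.val_mul, h2, Units.val_one, Matrix.one_mulVec] at h1
    exact h1.symm

/-- **no maximal subgroup normalises a group of symplectic type of order 27 for `q = 5`** -/
theorem no_type (h : Ctx (F := F) σ 3 q) (hq : q = 5) {R : Subgroup (GL (Fin 3) F)}
    (h1 : IsSymplecticTypeGroup 3 R) (h2 : ActsAbsolutelyIrreducibly (matrixSet R))
    (h3 : R ≤ similarityGroup (hermForm 3 F q)) (h4 : Nat.card R = 27) (h5 : Nat.card (Subgroup.center R) = 3)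
    {H : Subgroup (GL (Fin 3) F)}
    (hH : IsMaximalIn (GU 3 F q ⊓ specialLinear (Fin 3) F) H) (hle : H ≤ subgroupNormalizer R) : False := by
  classical
  obtain ⟨w, hw, P, hP, hel⟩ := frame h hq h1 h2 h3 h4 h5
  have f3 := three h hq
  have f5 := five h hq
  have hσ : ∀ x, σ x = x ^ 5 := by intro x; rw [h.val, hq]
  -- the converse by counting
  have hall : ∀ r ∈ R, ∃ k a b, (r : Matrix (Fin 3) (Fin 3) F) * (P : Matrix (Fin 3) (Fin 3) F) =
      ee w k • ((P : Matrix (Fin 3) (Fin 3) F) * Mx w a b) := by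
    choose φ hφR hφ using hel
    let ψ : Fin 3 × Fin 3 × Fin 3 → R := fun t => ⟨φ t.1 t.2.1 t.2.2, hφR _ _ _⟩
    have hinj : Function.Injective ψ := by
      rintro ⟨k, a, b⟩ ⟨k', a', b'⟩ hkk
      have h6 : φ k a b = φ k' a' b' := congrArg Subtype.val hkk
      have h7 : ee w k • ((P : Matrix (Fin 3) (Fin 3) F) * Mx w a b) = ee w k' • ((P : Matrix (Fin 3) (Fin 3) F) * Mx w a' b') := by
        rw [← hφ, ← hφ, h6]
      have h8 : ee w k • Mx w a b = ee w k' • Mx w a' b' := by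
        have h9 := congrArg (fun M => ((P⁻¹ : GL (Fin 3) F) : Matrix (Fin 3) (Fin 3) F) * M) h7
        simp only [Matrix.mul_smul, ← Matrix.mul_assoc, ← Units.val_mul, inv_mul_cancel, Units.val_one,
          Matrix.one_mul] at h9
        exact h9
      have e1 : ∀ i j, ee w k * Mx w a b i j = ee w k' * Mx w a' b' i j := fun i j => congrFun (congrFun h8 i) j
      have hb : b = b' := by
        have e2 := e1 b 0
        simp only [Mx, zero_add, if_true] at e2
        by_contra hne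
        rw [if_neg hne, mul_zero, ← ee_add hw] at e2
        exact ee_ne hw _ e2
      subst hb
      have e2 := e1 b 0
      have e3 := e1 (1 + b) 1
      simp only [Mx, zero_add, if_true] at e2 e3
      rw [← ee_add hw, ← ee_add hw] at e2 e3
      have e4 := ee_inj hw f3 e2
      have e5 := ee_inj hw f3 e3
      obtain ⟨e6, e7⟩ := g7 k a b k' a' e4 e5
      subst e6 e7
      rfl
    haveI : Finite R := Nat.finite_of_card_ne_zero (by rw [h4]; norm_num)
    have hsurj : Function.Surjective ψ := by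
      have hc : Nat.card (Fin 3 × Fin 3 × Fin 3) = Nat.card R := by rw [h4]; simp
      exact ((Nat.bijective_iff_injective_and_card ψ).mpr ⟨hinj, hc⟩).2
    intro r hr
    obtain ⟨⟨k, a, b⟩, ht⟩ := hsurj ⟨r, hr⟩
    have h6 : φ k a b = r := congrArg Subtype.val ht
    exact ⟨k, a, b, by rw [← h6, hφ]⟩
  -- elements of the normaliser
  have hnr : ∀ g ∈ subgroupNormalizer R, Nr w ((P⁻¹ * g * P : GL (Fin 3) F) : Matrix (Fin 3) (Fin 3) F) := by
    intro g hg a b
    obtain ⟨r, hr, hrP⟩ := hel 0 a b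
    have e0 : ee w 0 = 1 := rfl
    rw [e0, one_smul] at hrP
    have hg' : g * r * g⁻¹ ∈ R := (Subgroup.mem_normalizer_iff.mp hg r).mp hr
    obtain ⟨k, c, d, hk⟩ := hall _ hg'
    refine ⟨k, c, d, ?_⟩
    have hPi : ((P⁻¹ : GL (Fin 3) F) : Matrix (Fin 3) (Fin 3) F) * (P : Matrix (Fin 3) (Fin 3) F) = 1 := by
      rw [← Units.val_mul, inv_mul_cancel, Units.val_one]
    have hPi' : (P : Matrix (Fin 3) (Fin 3) F) * ((P⁻¹ : GL (Fin 3) F) : Matrix (Fin 3) (Fin 3) F) = 1 := by
      rw [← Units.val_mul, mul_inv_cancel, Units.val_one]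
    have m1 : Mx w a b = ((P⁻¹ * r * P : GL (Fin 3) F) : Matrix (Fin 3) (Fin 3) F) := by
      rw [Units.val_mul, Units.val_mul, Matrix.mul_assoc, hrP, ← Matrix.mul_assoc, hPi, Matrix.one_mul]
    have m2 : ee w k • Mx w c d = ((P⁻¹ * (g * r * g⁻¹) * P : GL (Fin 3) F) : Matrix (Fin 3) (Fin 3) F) := by
      rw [Units.val_mul, Units.val_mul, Matrix.mul_assoc, hk, Matrix.mul_smul, ← Matrix.mul_assoc, hPi, Matrix.one_mul]
    rw [← Matrix.smul_mul, m1, m2, ← Units.val_mul, ← Units.val_mul]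
    congr 1
    group
  have hPnorm : ∀ g ∈ GU 3 F q, ∀ v, Nm σ (((P⁻¹ * g * P : GL (Fin 3) F) : Matrix (Fin 3) (Fin 3) F) *ᵥ v) = Nm σ v := by
    intro g hg v
    have h6 : P⁻¹ * g * P ∈ GU 3 F q := (GU 3 F q).mul_mem ((GU 3 F q).mul_mem ((GU 3 F q).inv_mem hP) hg) hP
    rw [Nm_eq h, Nm_eq h]
    exact h6 v v
  have hPdet : ∀ g ∈ specialLinear (Fin 3) F, ((P⁻¹ * g * P : GL (Fin 3) F) : Matrix (Fin 3) (Fin 3) F).det = 1 := by
    intro g hg
    have h6 : Matrix.GeneralLinearGroup.det g = 1 := hg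
    have h7 : Matrix.GeneralLinearGroup.det (P⁻¹ * g * P) = 1 := by
      rw [map_mul, map_mul, h6, mul_one, map_inv, inv_mul_cancel]
    have h8 := congrArg Units.val h7
    rw [Matrix.GeneralLinearGroup.val_det_apply, Units.val_one] at h8
    exact h8
  have hHM : H ≤ stab σ P := by
    have key : ∀ g ∈ H, ∀ v, Om σ v → Om σ (((P⁻¹ * g * P : GL (Fin 3) F) : Matrix (Fin 3) (Fin 3) F) *ᵥ v) := by
      intro g hg v hv
      exact norm_Om hσ f5 hw f3 (p24 h hq) (hPdet g (hH.1.le hg).2) (hnr g (hle hg)) (hPnorm g (hH.1.le hg).1) v hv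
    intro g hg v
    constructor
    · intro hv
      have h6 := key g⁻¹ (H.inv_mem hg) _ hv
      have h7 : (P⁻¹ * g⁻¹ * P) * (P⁻¹ * g * P) = 1 := by group
      rwa [Matrix.mulVec_mulVec, ← Units.val_mul, h7, Units.val_one, Matrix.one_mulVec] at h6
    · exact key g hg v
  -- lifting matrices
  have lift : ∀ M : Matrix (Fin 3) (Fin 3) F, M.det = 1 → (∀ u v, Fm σ (M *ᵥ u) (M *ᵥ v) = Fm σ u v) →
      ∃ g ∈ GU 3 F q ⊓ specialLinear (Fin 3) F, ((P⁻¹ * g * P : GL (Fin 3) F) : Matrix (Fin 3) (Fin 3) F) = M := by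
    intro M hM hF
    let m : GL (Fin 3) F := Matrix.GeneralLinearGroup.mkOfDetNeZero M (by rw [hM]; exact one_ne_zero)
    have hm : (m : Matrix (Fin 3) (Fin 3) F) = M := rfl
    have hmU : m ∈ GU 3 F q := by
      intro u v
      change hermForm 3 F q (M *ᵥ u) (M *ᵥ v) = hermForm 3 F q u v
      rw [herm_eq h, herm_eq h, hF]
    have hmS : m ∈ specialLinear (Fin 3) F := by
      change Matrix.GeneralLinearGroup.det m = 1
      apply Units.ext
      rw [Matrix.GeneralLinearGroup.val_det_apply, hm, hM, Units.val_one]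
    refine ⟨P * m * P⁻¹, ⟨(GU 3 F q).mul_mem ((GU 3 F q).mul_mem hP hmU) ((GU 3 F q).inv_mem hP), ?_⟩, ?_⟩
    · change Matrix.GeneralLinearGroup.det (P * m * P⁻¹) = 1
      have h6 : Matrix.GeneralLinearGroup.det m = 1 := hmS
      rw [map_mul, map_mul, h6, mul_one, map_inv, mul_inv_cancel]
    · have h6 : P⁻¹ * (P * m * P⁻¹) * P = m := by group
      rw [h6, hm]
  -- outside
  have hnot : ¬ GU 3 F q ⊓ specialLinear (Fin 3) F ≤ stab σ P := by
    intro hsub
    obtain ⟨g, hg, hgM⟩ := lift !![-1, 0, 0; 0, -1, 0; 0, 0, 1] (by simp [Matrix.det_fin_three]) (by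
      intro u v
      simp only [Fm, Matrix.mulVec, dotProduct, Fin.sum_univ_three]
      simp)
    obtain ⟨t1, t2⟩ := Om_test hσ f5 hw
    have h6 := (hsub hg ![1, 2 * w + 1, 1]).mpr t1
    rw [hgM] at h6
    apply t2
    have h7 : (!![-1, 0, 0; 0, -1, 0; 0, 0, 1] : Matrix (Fin 3) (Fin 3) F) *ᵥ ![1, 2 * w + 1, 1] = ![-1, -(2 * w + 1), 1] := by
      ext i
      fin_cases i <;> simp [Matrix.mulVec, dotProduct, Fin.sum_univ_three]
    rwa [h7] at h6
  have hHeq := eq_of_max hH hHM hnot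
  -- the involution inside
  obtain ⟨s, hs, hsM⟩ := lift (Sm w) (det_S f5 hw) (fun u v => Fm_S hσ f5 hw u v)
  have hss : ∀ v, Sm w *ᵥ (Sm w *ᵥ v) = v := by
    intro v
    rw [S_vec, S_vec]
    ext i
    have hi := dec3 i
    rcases hi with rfl | rfl | rfl
    · simp only [Matrix.cons_val_zero, Matrix.cons_val_one, Matrix.cons_val]
      linear_combination ((-2)*w*(v 1) + (-2)*w*(v 2) + 1*(v 0) + (-1)*(v 1) + (-1)*(v 2)) * f5 + ((-8)*(v 0)) * hw
    · simp only [Matrix.cons_val_zero, Matrix.cons_val_one, Matrix.cons_val]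
      linear_combination (2*w*(v 0) + 1*(v 0) + 3*(v 1) + 3*(v 2)) * f5 + ((-4)*(v 1) + (-4)*(v 2)) * hw
    · simp only [Matrix.cons_val_zero, Matrix.cons_val_one, Matrix.cons_val]
      linear_combination (2*w*(v 0) + 1*(v 0) + 3*(v 1) + 3*(v 2)) * f5 + ((-4)*(v 1) + (-4)*(v 2)) * hw
  have hsst : s ∈ stab σ P := by
    intro v
    rw [hsM]
    constructor
    · intro hv
      have := Om_S hσ f5 hw _ hv
      rwa [hss] at this
    · exact Om_S hσ f5 hw v
  have hsH : s ∈ H := by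
    rw [hHeq]
    exact ⟨hsst, hs⟩
  have h6 := hnr s (hle hsH)
  rw [hsM] at h6
  exact not_Nr f5 hw f3 h6

end H85.U35C
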