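import Mathlib
import Cfsg.Agent.Lib.H82.Rel
import Cfsg.Agent.Lib.H82.Coset
import Cfsg.Agent.Lib.H82.Cliff
import Cfsg.Agent.Lib.H4.CenterIndex
import Cfsg.Agent.Lib.H1.Cores
import Cfsg.Agent.Lib.H1.Cyc

/-!
# Vanishing p-singular elements in solvable groups (elementary)
-/

set_option autoImplicit false
set_option linter.style.haveILetI false

namespace H85.VanP

open Cfsg

universe u

/-- A commuting coprime faithful action on a finite abelian group has a regular orbit. -/
theorem exists_regular {A W : Type*} [Group A] [Finite A] [CommGroup W] [Finite W]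
    [MulDistribMulAction A W] (hcomm : ∀ (a b : A) (w : W), a • b • w = b • a • w)
    (hcop : (Nat.card A).Coprime (Nat.card W)) (hfaith : ∀ a : A, (∀ w : W, a • w = w) → a = 1) :
    ∃ w : W, ∀ a : A, a • w = w → a = 1 := by
  classical
  obtain ⟨w, hw⟩ := Finite.exists_min (fun w : W => Nat.card (MulAction.stabilizer A w))
  refine ⟨w, ?_⟩
  by_contra hcon
  push Not at hcon
  obtain ⟨c, hc, hc1⟩ := hcon
  obtain ⟨u, hu⟩ : ∃ u : W, c • u ≠ u := by
    by_contra h
    push Not at h
    exact hc1 (hfaith c h)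
  set C := MulAction.stabilizer A w with hC
  letI := Fintype.ofFinite C
  have hcC : c ∈ C := hc
  let T : W →* W :=
    { toFun := fun x => ∏ d : C, (d : A) • x
      map_one' := by simp
      map_mul' := fun x y => by simp [smul_mul', Finset.prod_mul_distrib] }
  have hT : ∀ x, T x = ∏ d : C, (d : A) • x := fun x => rfl
  have hTc : ∀ x, T (c • x) = T x := by
    intro x
    rw [hT, hT]
    exact Fintype.prod_equiv (Equiv.mulRight (⟨c, hcC⟩ : C)) _ _ (fun d => by
      simp [mul_smul])
  have hTa : ∀ (a : A) x, T (a • x) = a • T x := by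
    intro a x
    rw [hT, hT, Finset.smul_prod']
    exact Finset.prod_congr rfl fun d _ => hcomm _ _ _
  have hTfix : ∀ x : W, (∀ d ∈ C, d • x = x) → T x = x ^ Nat.card C := by
    intro x hx
    rw [hT, Finset.prod_congr rfl fun (d : C) _ => hx d d.2]
    simp
  have hpow : ∀ x : W, x ^ Nat.card C = 1 → x = 1 := by
    intro x hx
    have h1 : (Nat.card C).Coprime (Nat.card W) :=
      Nat.Coprime.coprime_dvd_left (Subgroup.card_subgroup_dvd_card C) hcop
    have h2 := orderOf_dvd_of_pow_eq_one hx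
    have h3 := orderOf_dvd_natCard x
    exact orderOf_eq_one_iff.1 (Nat.eq_one_of_dvd_coprimes h1 h2 h3)
  set v := c • u / u with hv
  have hv1 : v ≠ 1 := fun h => hu (div_eq_one.1 h)
  have hTv : T v = 1 := by rw [hv, map_div, hTc, div_self']
  have key : ∀ a : A, a • (w * v) = w * v → a • w = w ∧ a • v = v := by
    intro a ha
    rw [smul_mul'] at ha
    have h1 : (a • w) / w = v / (a • v) := by
      rw [div_eq_div_iff_mul_eq_mul, ha, mul_comm]
    have hfix : ∀ d ∈ C, d • ((a • w) / w) = (a • w) / w := by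
      intro d hd
      have hdw : d • w = w := hd
      rw [smul_div', hcomm, hdw]
    have h2 : T ((a • w) / w) = 1 := by
      rw [h1, map_div, hTa, hTv, smul_one, div_self']
    rw [hTfix _ hfix] at h2
    have h3 := hpow _ h2
    have h4 : a • w = w := div_eq_one.1 h3
    refine ⟨h4, ?_⟩
    rw [h3] at h1
    exact (div_eq_one.1 h1.symm).symm
  obtain ⟨d, hd, hdv⟩ : ∃ d ∈ C, d • v ≠ v := by
    by_contra h
    push Not at h
    rw [hTfix v h] at hTv
    exact hv1 (hpow _ hTv)
  have hlt : MulAction.stabilizer A (w * v) < C := by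
    refine lt_of_le_of_ne (fun a ha => (key a ha).1) (fun h => hdv ?_)
    have : d ∈ MulAction.stabilizer A (w * v) := by rw [h]; exact hd
    exact (key d this).2
  have h5 : Nat.card (MulAction.stabilizer A (w * v)) < Nat.card C :=
    Set.ncard_lt_ncard hlt (Set.toFinite _)
  exact absurd (hw (w * v)) (not_le_of_gt h5)

variable {G : Type u} [Group G]

/-- vanishing elements -/
def Van (g : G) : Prop := ∃ χ : IrrCharacter G, (χ : G → ℂ) g = 0

theorem van_conj {g h : G} (hc : IsConj g h) (hg : Van g) : Van h := by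
  obtain ⟨χ, hχ⟩ := hg
  refine ⟨χ, ?_⟩
  rw [← H4.CharBasic.IsClassFunction.apply_eq_of_isConj
    (H4.CharBasic.IsIrrCharacter.isClassFunction χ.2) hc]
  exact hχ

theorem van_of_quot (N : Subgroup G) [N.Normal] {g : G}
    (h : Van (QuotientGroup.mk' N g)) : Van g := by
  obtain ⟨χ, hχ⟩ := h
  exact ⟨⟨_, H4.CharBasic.isIrrCharacter_comp (QuotientGroup.mk' N)
    (QuotientGroup.mk'_surjective N) χ.2⟩, hχ⟩

theorem indFun_eq_zero [Fintype G] (T : Subgroup G) (ψ : T → ℂ) {g : G}
    (h : ∀ x : G, x⁻¹ * g * x ∉ T) : indFun T ψ g = 0 := by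
  have : ∀ x : G, extendByZero T ψ (x⁻¹ * g * x) = 0 := by
    intro x
    apply Function.extend_apply'
    rintro ⟨t, ht⟩
    exact h x (ht ▸ t.2)
  simp [indFun, this]

/-- Lemma V: elements of an abelian-by-(faithful abelian `p`) normal section vanish. -/
theorem van_of_section [Finite G] {p : ℕ} [Fact p.Prime] (N L A : Subgroup G) [N.Normal]
    [L.Normal] (hNL : N ≤ L) (hNab : ∀ a ∈ N, ∀ b ∈ N, a * b = b * a)
    (hNp : ¬ p ∣ Nat.card N) (hAp : IsPGroup p A) (hAL : A ≤ L)
    (hLA : ∀ l ∈ L, ∃ a ∈ A, ∃ n ∈ N, l = a * n) (hAab : ∀ a ∈ A, ∀ b ∈ A, a * b = b * a)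
    (hC : ∀ a ∈ A, (∀ n ∈ N, a * n = n * a) → a = 1) {g : G} (hg : g ∈ L) (hgN : g ∉ N) :
    Van g := by
  classical
  letI := Fintype.ofFinite G
  letI := Fintype.ofFinite N
  have hcN : commutator N = ⊥ := by
    rw [commutator_def, Subgroup.commutator_eq_bot_iff_le_centralizer]
    intro a _
    rw [Subgroup.mem_centralizer_iff]
    intro b _
    exact Subtype.ext (hNab b b.2 a a.2)
  have hact : ∀ (a : A) (f : H82.Rel.Lin N), a • f = (a : G) • f := fun a f => rfl
  obtain ⟨f, hf⟩ := exists_regular (A := A) (W := H82.Rel.Lin N) (by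
      intro a b w
      rw [smul_smul, smul_smul]
      congr 1
      exact Subtype.ext (hAab a a.2 b b.2)) (by
      rw [H82.Rel.Lin.card, hcN, Subgroup.index_bot]
      obtain ⟨k, hk⟩ := IsPGroup.iff_card.1 hAp
      rw [hk]
      exact Nat.Coprime.pow_left _ ((Nat.Prime.coprime_iff_not_dvd Fact.out).2 hNp)) (by
      intro a ha
      apply Subtype.ext
      refine hC a a.2 fun n hn => ?_
      by_contra hne
      have h1 : (⟨(a : G)⁻¹ * n * (a : G)⁻¹⁻¹, (inferInstance : N.Normal).conj_mem n hn _⟩ : N) *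
          (⟨n, hn⟩ : N)⁻¹ ∉ commutator N := by
        rw [hcN, Subgroup.mem_bot]
        intro h2
        apply hne
        have h3 := congrArg Subtype.val (mul_inv_eq_one.1 h2)
        simp only [inv_inv] at h3
        calc (a : G) * n = a * ((a : G)⁻¹ * n * a) := by rw [h3]
          _ = n * a := by group
      obtain ⟨F, hF⟩ := H18.CharQuot.exists_hom_ne_one h1
      apply hF
      set F' : H82.Rel.Lin N := F with hF'
      have h4 : (a : G) • F' = F' := ha F'
      have h5 : H82.Rel.Lin.hom ((a : G) • F') ⟨n, hn⟩ = H82.Rel.Lin.hom F' ⟨n, hn⟩ := by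
        rw [h4]
      rw [H82.Rel.smul_hom] at h5
      rw [map_mul, map_inv, mul_inv_eq_one]
      exact h5)
  -- inertia group
  set θ := H82.Rel.lin f with hθ
  obtain ⟨χ, hχ⟩ := H82.Cliff.exists_liesOver N θ
  rw [H82.Cliff.liesOver_iff] at hχ
  have hNT : N ≤ H82.Rel.St θ := by
    intro n hn
    rw [H82.Rel.St_lin, MulAction.mem_stabilizer_iff]
    apply H82.Rel.Lin.ext
    intro m
    rw [H82.Rel.smul_hom]
    congr 1
    apply Subtype.ext
    have := hNab n hn m m.2
    calc n⁻¹ * (m : G) * n⁻¹⁻¹ = n⁻¹ * (m * n) := by group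
      _ = n⁻¹ * (n * m) := by rw [this]
      _ = m := by group
  letI := Fintype.ofFinite (H82.Rel.St θ)
  obtain ⟨ψ, _, _, hψ, _⟩ := H4.CenterIndex.exists_corr N χ.2 θ.2 hχ (H82.Rel.St θ) hNT
    (fun g => H82.Rel.mem_St)
  refine ⟨χ, ?_⟩
  rw [← hψ]
  apply indFun_eq_zero
  intro x hx
  have hxL : x⁻¹ * g * x ∈ L := by
    have := (inferInstance : L.Normal).conj_mem g hg x⁻¹
    rwa [inv_inv] at this
  obtain ⟨a, ha, n, hn, hl⟩ := hLA _ hxL
  rw [hl] at hx
  have h1 : a ∈ H82.Rel.St θ := by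
    have := (H82.Rel.St θ).mul_mem hx ((H82.Rel.St θ).inv_mem (hNT hn))
    simpa using this
  rw [H82.Rel.St_lin, MulAction.mem_stabilizer_iff] at h1
  have h2 : (⟨a, ha⟩ : A) = 1 := hf _ h1
  have h3 : a = 1 := congrArg Subtype.val h2
  rw [h3, one_mul] at hl
  apply hgN
  have h4 : g = x * n * x⁻¹ := by rw [← hl]; group
  rw [h4]
  exact (inferInstance : N.Normal).conj_mem n hn x

end H85.VanP
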