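import Cfsg.Agent.Lib.H85.VanP
import Cfsg.Agent.Lib.H2.Solv

/-!
# Vanishing p-singular elements in solvable groups (elementary), part 2
-/

set_option autoImplicit false
set_option linter.style.haveILetI false

namespace H85.VanP

open Cfsg

universe u

variable {G : Type u} [Group G]

/-- A `p`-subgroup normalised by a normal subgroup `N`, intersected with `N`, lies in `O_p(G)`. -/
theorem inf_le_pCore [Finite G] {p : ℕ} {E N : Subgroup G} [N.Normal] (hE : IsPGroup p E)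
    (h : ∀ n ∈ N, ∀ x ∈ E, n * x * n⁻¹ ∈ E) {x : G} (hx : x ∈ E) (hxN : x ∈ N) :
    x ∈ pCore p G := by
  have hn : (E.subgroupOf N).Normal := ⟨fun y hy n => by
    rw [Subgroup.mem_subgroupOf] at hy ⊢
    exact h n n.2 y hy⟩
  have h1 : E.subgroupOf N ≤ pCore p N := H1.Cores.le_pCore hn (hE.comap_subtype)
  have h2 : x ∈ (pCore p N).map N.subtype := ⟨⟨x, hxN⟩, h1 (Subgroup.mem_subgroupOf.2 hx), rfl⟩
  rw [H1.Cores.map_subtype_pCore] at h2
  exact h2.2

/-- Complement in the preimage of an abelian `p`-subgroup. -/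
theorem exists_compl [Finite G] {p : ℕ} [Fact p.Prime] (N : Subgroup G) [N.Normal]
    (hNp : ¬ p ∣ Nat.card N) (Z : Subgroup (G ⧸ N)) (hZp : IsPGroup p Z)
    (hZab : ∀ a ∈ Z, ∀ b ∈ Z, a * b = b * a) :
    ∃ A : Subgroup G, IsPGroup p A ∧ A ≤ Z.comap (QuotientGroup.mk' N) ∧
      (∀ l ∈ Z.comap (QuotientGroup.mk' N), ∃ a ∈ A, ∃ n ∈ N, l = a * n) ∧
      (∀ a ∈ A, ∀ b ∈ A, a * b = b * a) ∧ (∀ a ∈ A, a ∈ N → a = 1) := by
  set L := Z.comap (QuotientGroup.mk' N) with hL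
  have hNL : N ≤ L := by
    intro n hn
    show QuotientGroup.mk' N n ∈ Z
    have : QuotientGroup.mk' N n = 1 := (QuotientGroup.eq_one_iff n).2 hn
    rw [this]; exact Z.one_mem
  obtain ⟨k, hk⟩ := IsPGroup.iff_card.1 hZp
  have hcardL : Nat.card L = Nat.card N * Nat.card Z := H1.Cores.card_comap_mk' N Z
  have hcN : Nat.card (N.subgroupOf L) = Nat.card N := by
    exact Nat.card_congr (Subgroup.subgroupOfEquivOfLe hNL).toEquiv
  have hidx : (N.subgroupOf L).index = Nat.card Z := by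
    have h1 := Subgroup.card_mul_index (N.subgroupOf L)
    rw [hcN, hcardL] at h1
    exact Nat.eq_of_mul_eq_mul_left Nat.card_pos h1
  have hcop : (Nat.card (N.subgroupOf L)).Coprime (N.subgroupOf L).index := by
    rw [hcN, hidx, hk]
    exact (Nat.Coprime.pow_left k ((Nat.Prime.coprime_iff_not_dvd Fact.out).2 hNp)).symm
  obtain ⟨K, hK⟩ := Subgroup.exists_right_complement'_of_coprime hcop
  have hinf : ∀ a : L, a ∈ K → (a : G) ∈ N → a = 1 := by
    intro a ha haN
    have h1 : a ∈ N.subgroupOf L ⊓ K := ⟨Subgroup.mem_subgroupOf.2 haN, ha⟩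
    rw [hK.disjoint.eq_bot] at h1
    exact Subgroup.mem_bot.1 h1
  refine ⟨K.map L.subtype, ?_, ?_, ?_, ?_, ?_⟩
  · have h1 : Nat.card K = p ^ k := by
      rw [← hk, ← hidx]
      exact hK.symm.index_eq_card.symm
    exact (IsPGroup.of_card h1).map _
  · rintro _ ⟨a, _, rfl⟩; exact a.2
  · intro l hl
    obtain ⟨⟨n, a⟩, hna⟩ := hK.2 ⟨l, hl⟩
    have h1 : (n : L) * a = ⟨l, hl⟩ := hna
    have h2 : ((n : L) : G) * (a : L) = l := congrArg Subtype.val h1
    refine ⟨(a : L), ⟨a, a.2, rfl⟩, ((a : L) : G)⁻¹ * ((n : L) : G) * (a : L), ?_, ?_⟩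
    · have h3 : ((n : L) : G) ∈ N := Subgroup.mem_subgroupOf.1 n.2
      have := (inferInstance : N.Normal).conj_mem _ h3 ((a : L) : G)⁻¹
      rwa [inv_inv] at this
    · rw [← h2]; group
  · rintro _ ⟨a, ha, rfl⟩ _ ⟨b, hb, rfl⟩
    have h1 : (a * b * a⁻¹ * b⁻¹ : L) = 1 := by
      apply hinf
      · exact K.mul_mem (K.mul_mem (K.mul_mem ha hb) (K.inv_mem ha)) (K.inv_mem hb)
      · rw [← QuotientGroup.eq_one_iff]
        have h2 := hZab (QuotientGroup.mk' N a) a.2 (QuotientGroup.mk' N b) b.2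
        have h3 : ((a * b * a⁻¹ * b⁻¹ : L) : G) = (a : G) * b * (a : G)⁻¹ * (b : G)⁻¹ := rfl
        rw [h3]
        show QuotientGroup.mk' N ((a : G) * b * (a : G)⁻¹ * (b : G)⁻¹) = 1
        rw [map_mul, map_mul, map_mul, map_inv, map_inv, h2]
        group
    have h2 : a * b = b * a := by
      have h3 := mul_inv_eq_one.1 h1
      rw [mul_inv_eq_iff_eq_mul] at h3
      exact h3
    exact congrArg Subtype.val h2
  · rintro _ ⟨a, ha, rfl⟩ haN
    exact congrArg Subtype.val (hinf a ha haN)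

/-- The complement acts faithfully if `O_p(G) = 1`. -/
theorem compl_faithful [Finite G] {p : ℕ} [Fact p.Prime] (N L A : Subgroup G) [N.Normal]
    [L.Normal] (hNL : N ≤ L) (hNab : ∀ a ∈ N, ∀ b ∈ N, a * b = b * a)
    (hAp : IsPGroup p A) (hAL : A ≤ L)
    (hLA : ∀ l ∈ L, ∃ a ∈ A, ∃ n ∈ N, l = a * n) (hAab : ∀ a ∈ A, ∀ b ∈ A, a * b = b * a)
    (hO : pCore p G = ⊥) {a : G} (ha : a ∈ A) (hC : ∀ n ∈ N, a * n = n * a) : a = 1 := by
  have h1 : a ∈ pCore p G := by
    refine inf_le_pCore (E := A ⊓ Subgroup.centralizer (N : Set G))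
      (N := L ⊓ Subgroup.centralizer (N : Set G)) (hAp.to_le inf_le_left) ?_ ?_ ?_
    · rintro d ⟨hdL, hdC⟩ x ⟨hxA, hxC⟩
      obtain ⟨b, hb, n, hn, rfl⟩ := hLA d hdL
      have h2 : n * x = x * n := Subgroup.mem_centralizer_iff.1 hxC n hn
      have h3 : b * x = x * b := hAab b hb x hxA
      have h4 : b * n * x * (b * n)⁻¹ = x := by
        calc b * n * x * (b * n)⁻¹ = b * (n * x) * n⁻¹ * b⁻¹ := by group
          _ = b * (x * n) * n⁻¹ * b⁻¹ := by rw [h2]
          _ = (b * x) * b⁻¹ := by group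
          _ = x * b * b⁻¹ := by rw [h3]
          _ = x := by group
      rw [h4]; exact ⟨hxA, hxC⟩
    · exact ⟨ha, Subgroup.mem_centralizer_iff.2 fun n hn => (hC n hn).symm⟩
    · exact ⟨hAL ha, Subgroup.mem_centralizer_iff.2 fun n hn => (hC n hn).symm⟩
  rw [hO, Subgroup.mem_bot] at h1
  exact h1

/-- An abelian normal subgroup has order prime to `p` if `O_p(G) = 1`. -/
theorem not_dvd_card_of_abelian [Finite G] {p : ℕ} [hp : Fact p.Prime] (N : Subgroup G)
    [N.Normal] (hNab : ∀ a ∈ N, ∀ b ∈ N, a * b = b * a) (hO : pCore p G = ⊥) :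
    ¬ p ∣ Nat.card N := by
  intro hd
  obtain ⟨x, hx⟩ := exists_prime_orderOf_dvd_card' p hd
  have hxp : (x : G) ^ p = 1 := by
    have := pow_orderOf_eq_one x
    rw [hx] at this
    exact congrArg Subtype.val this
  have h1 : (x : G) ∈ pCore p G := by
    refine inf_le_pCore (E := Subgroup.zpowers (x : G)) (N := N) ?_ ?_
      (Subgroup.mem_zpowers _) x.2
    · apply IsPGroup.of_card (n := 1)
      rw [Nat.card_zpowers, pow_one, ← hx]
      exact Subgroup.orderOf_coe x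
    · intro n hn y hy
      obtain ⟨k, rfl⟩ := Subgroup.mem_zpowers_iff.1 hy
      have h2 : Commute n (x : G) := hNab n hn x x.2
      have h3 : n * (x : G) ^ k * n⁻¹ = (x : G) ^ k := by
        rw [(h2.zpow_right k).eq]; group
      rw [h3]; exact hy
  rw [hO, Subgroup.mem_bot] at h1
  have h2 : x = 1 := Subtype.ext h1
  rw [h2, orderOf_one] at hx
  exact hp.out.one_lt.ne hx

/-- Elements of the second centre vanish. -/
theorem van_of_second_center [Finite G] {p : ℕ} [hp : Fact p.Prime] (Z : Subgroup G) [Z.Normal]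
    (hZ : Nat.card Z = p) {x y a : G} (hxy : y⁻¹ * x * y = x * a) (ha : a ∈ Z) (ha1 : a ≠ 1)
    (hya : Commute y a) : Van x := by
  have hgen : ∀ z ∈ Z, ∃ i : ℕ, a ^ i = z := by
    intro z hz
    have h1 : Subgroup.zpowers (⟨a, ha⟩ : Z) = ⊤ := by
      apply zpowers_eq_top_of_prime_card hZ
      intro h; exact ha1 (congrArg Subtype.val h)
    have h2 : (⟨z, hz⟩ : Z) ∈ Subgroup.zpowers (⟨a, ha⟩ : Z) := by rw [h1]; exact Subgroup.mem_top _
    obtain ⟨i, hi⟩ := (mem_powers_iff_mem_zpowers.2 h2)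
    exact ⟨i, congrArg Subtype.val hi⟩
  have hconj : ∀ i : ℕ, (y ^ i)⁻¹ * x * y ^ i = x * a ^ i := by
    intro i
    induction i with
    | zero => simp
    | succ i ih =>
      have h1 : y⁻¹ * a ^ i * y = a ^ i := by
        have h2 : Commute y (a ^ i) := hya.pow_right i
        rw [mul_assoc, ← h2.eq]; group
      calc (y ^ (i + 1))⁻¹ * x * y ^ (i + 1) = y⁻¹ * ((y ^ i)⁻¹ * x * y ^ i) * y := by
            rw [pow_succ]; group
        _ = y⁻¹ * (x * a ^ i) * y := by rw [ih]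
        _ = (y⁻¹ * x * y) * (y⁻¹ * a ^ i * y) := by group
        _ = x * a * a ^ i := by rw [hxy, h1]
        _ = x * a ^ (i + 1) := by rw [pow_succ', mul_assoc]
  obtain ⟨χ, hχ⟩ : ∃ χ : IrrCharacter G, ¬ H82.Quot.Over Z χ := by
    by_contra hcon
    push Not at hcon
    have h1 : IsConj a 1 := by
      rw [H4.CharCount.isConj_iff_irr]
      exact fun χ => hcon χ a ha
    exact ha1 (isConj_one_right.1 h1.symm)
  refine ⟨χ, H82.Coset.eq_zero_of_coset Z x ?_ χ hχ⟩
  intro z hz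
  obtain ⟨i, rfl⟩ := hgen z hz
  rw [isConj_iff]
  exact ⟨(y ^ i)⁻¹, by rw [← hconj i]; group⟩

end H85.VanP
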