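import Cfsg.Agent.Lib.H85.VanP2

/-!
# Vanishing p-singular elements in solvable groups (elementary), part 3
-/

set_option autoImplicit false
set_option linter.style.haveILetI false

namespace H85.VanP

open Cfsg

universe u

section one

variable {G : Type u} [Group G]

/-- the centre of `O_p(G/N)` -/
def Zq (p : ℕ) (N : Subgroup G) [N.Normal] : Subgroup (G ⧸ N) :=
  pCore p (G ⧸ N) ⊓ Subgroup.centralizer (pCore p (G ⧸ N) : Set (G ⧸ N))

instance (p : ℕ) (N : Subgroup G) [N.Normal] : (Zq p N).Normal := by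
  unfold Zq; infer_instance

theorem Zq_pgroup (p : ℕ) (N : Subgroup G) [N.Normal] : IsPGroup p (Zq p N) :=
  (H1.Cores.isPGroup_pCore p).to_le inf_le_left

theorem Zq_comm (p : ℕ) (N : Subgroup G) [N.Normal] :
    ∀ a ∈ Zq p N, ∀ b ∈ Zq p N, a * b = b * a := fun a ha b hb =>
  (Subgroup.mem_centralizer_iff.1 ha.2 b hb.1).symm

theorem Zq_ne_bot [Finite G] (p : ℕ) [Fact p.Prime] (N : Subgroup G) [N.Normal]
    (h : pCore p (G ⧸ N) ≠ ⊥) : Zq p N ≠ ⊥ := by
  have hQ : IsPGroup p (pCore p (G ⧸ N)) := H1.Cores.isPGroup_pCore p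
  have : Nontrivial (pCore p (G ⧸ N)) := (Subgroup.nontrivial_iff_ne_bot _).2 h
  have := hQ.center_nontrivial
  obtain ⟨z, hz⟩ := exists_ne (1 : Subgroup.center (pCore p (G ⧸ N)))
  intro hb
  apply hz
  have h1 : ((z : pCore p (G ⧸ N)) : G ⧸ N) ∈ Zq p N := by
    refine ⟨(z : pCore p (G ⧸ N)).2, Subgroup.mem_centralizer_iff.2 fun y hy => ?_⟩
    exact congrArg Subtype.val (Subgroup.mem_center_iff.1 z.2 ⟨y, hy⟩)
  rw [hb, Subgroup.mem_bot] at h1
  exact Subtype.ext (Subtype.ext h1)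

theorem dvd_orderOf_of_pgroup {p : ℕ} [hp : Fact p.Prime] {H : Type*} [Group H] {P : Subgroup H}
    (hP : IsPGroup p P) {x : H} (hx : x ∈ P) (hx1 : x ≠ 1) : p ∣ orderOf x := by
  obtain ⟨k, hk⟩ := hP ⟨x, hx⟩
  have hk' : x ^ p ^ k = 1 := congrArg Subtype.val hk
  obtain ⟨j, _, hj⟩ := (Nat.dvd_prime_pow hp.out).1 (orderOf_dvd_of_pow_eq_one hk')
  have hj0 : j ≠ 0 := by
    rintro rfl
    rw [pow_zero] at hj
    exact hx1 (orderOf_eq_one_iff.1 hj)
  rw [hj]; exact dvd_pow_self p hj0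

theorem section_van [Finite G] {p : ℕ} [hp : Fact p.Prime] (N : Subgroup G) [N.Normal]
    (hNab : ∀ a ∈ N, ∀ b ∈ N, a * b = b * a) (hO : pCore p G = ⊥) {g : G}
    (hg : QuotientGroup.mk' N g ∈ Zq p N) (hg1 : QuotientGroup.mk' N g ≠ 1) :
    Van g ∧ p ∣ orderOf g := by
  have hNp := not_dvd_card_of_abelian N hNab hO
  obtain ⟨A, hAp, hAL, hLA, hAab, _⟩ := exists_compl N hNp (Zq p N) (Zq_pgroup p N) (Zq_comm p N)
  have hNL : N ≤ (Zq p N).comap (QuotientGroup.mk' N) := by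
    intro n hn
    show QuotientGroup.mk' N n ∈ Zq p N
    have : QuotientGroup.mk' N n = 1 := (QuotientGroup.eq_one_iff n).2 hn
    rw [this]; exact Subgroup.one_mem _
  refine ⟨van_of_section N _ A hNL hNab hNp hAp hAL hLA hAab
    (fun a ha hC => compl_faithful N _ A hNL hNab hAp hAL hLA hAab hO ha hC) hg
    (fun h => hg1 ((QuotientGroup.eq_one_iff g).2 h)), ?_⟩
  exact (dvd_orderOf_of_pgroup (Zq_pgroup p N) hg hg1).trans (orderOf_map_dvd _ g)

theorem exists_ne_one {H : Subgroup G} (h : H ≠ ⊥) : ∃ z ∈ H, z ≠ 1 := by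
  by_contra hcon
  push Not at hcon
  exact h ((Subgroup.eq_bot_iff_forall H).2 hcon)

theorem card_quot_lt [Finite G] (N : Subgroup G) [N.Normal] (hN : N ≠ ⊥) :
    Nat.card (G ⧸ N) < Nat.card G := by
  have h1 := Subgroup.card_eq_card_quotient_mul_card_subgroup N
  have h2 : 1 < Nat.card N := by
    rw [Subgroup.one_lt_card_iff_ne_bot]; exact hN
  rw [h1]
  exact lt_mul_of_one_lt_right Nat.card_pos h2

end one

/-- Theorem A: a finite solvable group without vanishing elements of order divisible by `p` has a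
normal Sylow `p`-subgroup. -/
theorem thmA (p : ℕ) [hp : Fact p.Prime] : ∀ (m : ℕ) (G : Type u) [Group G] [Finite G],
    Nat.card G = m → Group.IsSolvable G → (∀ g : G, Van g → ¬ p ∣ orderOf g) →
    ¬ p ∣ (pCore p G).index := by
  intro m
  induction m using Nat.strong_induction_on with
  | _ m ih =>
  intro G _ _ hm hs hV
  have hquot : ∀ (N : Subgroup G) [N.Normal], N ≠ ⊥ → ¬ p ∣ (pCore p (G ⧸ N)).index := by
    intro N _ hN
    refine ih _ (by rw [← hm]; exact card_quot_lt N hN) (G ⧸ N) rfl inferInstance ?_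
    intro g hg hpg
    obtain ⟨g, rfl⟩ := QuotientGroup.mk'_surjective N g
    exact hV g (van_of_quot N hg) (hpg.trans (orderOf_map_dvd _ g))
  by_cases hO : pCore p G = ⊥
  · rw [hO, Subgroup.index_bot]
    intro hd
    have hnt : Nontrivial G := by
      rw [← Finite.one_lt_card_iff_nontrivial]
      exact lt_of_lt_of_le hp.out.one_lt (Nat.le_of_dvd Nat.card_pos hd)
    obtain ⟨q, _, N, hN, hN1, _, hNc⟩ := H2.Solv.exists_normal_abelian_pgroup G hs
    have hNab : ∀ a ∈ N, ∀ b ∈ N, a * b = b * a := fun a ha b hb =>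
      congrArg Subtype.val (hNc.is_comm.comm (⟨a, ha⟩ : N) ⟨b, hb⟩)
    have hNp := not_dvd_card_of_abelian (p := p) N hNab hO
    have h1 := hquot N hN1
    have h2 : p ∣ Nat.card (G ⧸ N) := by
      rw [Subgroup.card_eq_card_quotient_mul_card_subgroup N] at hd
      exact (hp.out.dvd_mul.1 hd).resolve_right hNp
    have h3 : pCore p (G ⧸ N) ≠ ⊥ := by
      intro h4
      rw [h4, Subgroup.index_bot] at h1
      exact h1 h2
    obtain ⟨z, hz, hz1⟩ := exists_ne_one (Zq_ne_bot p N h3)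
    obtain ⟨g, hg⟩ := QuotientGroup.mk'_surjective N z
    have h4 := section_van N hNab hO (g := g) (by rw [hg]; exact hz) (by rw [hg]; exact hz1)
    exact hV g h4.1 h4.2
  · have h1 := hquot (pCore p G) hO
    rw [H1.Cores.pCore_quotient_pCore, Subgroup.index_bot] at h1
    exact h1

section two

variable {G : Type u} [Group G]

theorem zpowers_of_cyclic_exp [Finite G] {p : ℕ} [hp : Fact p.Prime] {A : Subgroup G}
    (hA : IsCyclic A) (h : ∀ a ∈ A, a ≠ 1 → orderOf a = p) (hne : A ≠ ⊥) :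
    ∃ a ∈ A, a ≠ 1 ∧ ∀ b ∈ A, ∃ k : ℤ, a ^ k = b := by
  obtain ⟨g, hg⟩ := hA.exists_generator
  have hk : ∀ b ∈ A, ∃ k : ℤ, (g : G) ^ k = b := by
    intro b hb
    obtain ⟨k, hk⟩ := Subgroup.mem_zpowers_iff.1 (hg ⟨b, hb⟩)
    exact ⟨k, congrArg Subtype.val hk⟩
  refine ⟨g, g.2, ?_, hk⟩
  intro h1
  apply hne
  rw [Subgroup.eq_bot_iff_forall]
  intro b hb
  obtain ⟨k, rfl⟩ := hk b hb
  rw [h1, one_zpow]

/-- Elements witnessing that a nonabelian `p`-group has elements in the second centre. -/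
theorem exists_second_center {Q : Type*} [Group Q] [Finite Q] {p : ℕ} [hp : Fact p.Prime]
    (hQ : IsPGroup p Q) (hne : Subgroup.center Q ≠ ⊤) :
    ∃ x y a : Q, x ∉ Subgroup.center Q ∧ a ∈ Subgroup.center Q ∧ a ≠ 1 ∧
      y⁻¹ * x * y = x * a := by
  have hQ' : IsPGroup p (Q ⧸ Subgroup.center Q) := hQ.to_quotient _
  have : Nontrivial (Q ⧸ Subgroup.center Q) := QuotientGroup.nontrivial_iff.2 hne
  have := hQ'.center_nontrivial
  obtain ⟨z, hz⟩ := exists_ne (1 : Subgroup.center (Q ⧸ Subgroup.center Q))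
  obtain ⟨x, hx⟩ := QuotientGroup.mk'_surjective (Subgroup.center Q) (z : Q ⧸ Subgroup.center Q)
  have hxc : x ∉ Subgroup.center Q := by
    intro h
    apply hz
    apply Subtype.ext
    rw [← hx]
    exact (QuotientGroup.eq_one_iff x).2 h
  obtain ⟨y, hy⟩ : ∃ y, ¬ y * x = x * y := by
    by_contra hcon
    push Not at hcon
    exact hxc (Subgroup.mem_center_iff.2 hcon)
  refine ⟨x, y, x⁻¹ * y⁻¹ * x * y, hxc, ?_, ?_, by group⟩
  · rw [← QuotientGroup.eq_one_iff]
    show QuotientGroup.mk' (Subgroup.center Q) (x⁻¹ * y⁻¹ * x * y) = 1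
    have h1 := Subgroup.mem_center_iff.1 z.2 (QuotientGroup.mk' (Subgroup.center Q) y)
    rw [← hx] at h1
    rw [map_mul, map_mul, map_mul, map_inv, map_inv, mul_assoc, ← h1]
    group
  · intro h
    apply hy
    have h2 : x⁻¹ * y⁻¹ * x * y = (y * x)⁻¹ * (x * y) := by group
    rw [h2] at h
    exact (inv_mul_eq_one.1 h)

end two

/-- Theorem B. -/
theorem thmB (p : ℕ) [hp : Fact p.Prime] : ∀ (m : ℕ) (G : Type u) [Group G] [Finite G],
    Nat.card G = m → Group.IsSolvable G →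
    (∀ g h : G, Van g → p ∣ orderOf g → Van h → p ∣ orderOf h → IsConj g h) →
    ¬ p ^ 2 ∣ (pCore p G).index := by
  intro m
  induction m using Nat.strong_induction_on with
  | _ m ih =>
  intro G _ _ hm hs hV
  have hquot : ∀ (N : Subgroup G) [N.Normal], N ≠ ⊥ → ¬ p ^ 2 ∣ (pCore p (G ⧸ N)).index := by
    intro N _ hN
    refine ih _ (by rw [← hm]; exact card_quot_lt N hN) (G ⧸ N) rfl inferInstance ?_
    intro g h hg hpg hh hph
    obtain ⟨g, rfl⟩ := QuotientGroup.mk'_surjective N g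
    obtain ⟨h, rfl⟩ := QuotientGroup.mk'_surjective N h
    exact (QuotientGroup.mk' N).map_isConj (hV g h (van_of_quot N hg)
      (hpg.trans (orderOf_map_dvd _ g)) (van_of_quot N hh) (hph.trans (orderOf_map_dvd _ h)))
  by_cases hO : pCore p G = ⊥
  swap
  · have h1 := hquot (pCore p G) hO
    rw [H1.Cores.pCore_quotient_pCore, Subgroup.index_bot] at h1
    exact h1
  rw [hO, Subgroup.index_bot]
  intro hd
  have hnt : Nontrivial G := by
    rw [← Finite.one_lt_card_iff_nontrivial]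
    exact lt_of_lt_of_le (Nat.one_lt_pow two_ne_zero hp.out.one_lt)
      (Nat.le_of_dvd Nat.card_pos hd)
  obtain ⟨q, _, N, hN, hN1, _, hNc⟩ := H2.Solv.exists_normal_abelian_pgroup G hs
  have hNab : ∀ a ∈ N, ∀ b ∈ N, a * b = b * a := fun a ha b hb =>
    congrArg Subtype.val (hNc.is_comm.comm (⟨a, ha⟩ : N) ⟨b, hb⟩)
  have hNp := not_dvd_card_of_abelian (p := p) N hNab hO
  have hcopN : (p ^ 2).Coprime (Nat.card N) :=
    Nat.Coprime.pow_left 2 ((Nat.Prime.coprime_iff_not_dvd hp.out).2 hNp)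
  have h2 : p ^ 2 ∣ Nat.card (G ⧸ N) := by
    rw [Subgroup.card_eq_card_quotient_mul_card_subgroup N] at hd
    exact hcopN.dvd_of_dvd_mul_right hd
  have h3 : pCore p (G ⧸ N) ≠ ⊥ := by
    intro h4
    have h1 := hquot N hN1
    rw [h4, Subgroup.index_bot] at h1
    exact h1 h2
  set Z := Zq p N with hZdef
  have hZne : Z ≠ ⊥ := Zq_ne_bot p N h3
  have hZp : IsPGroup p Z := Zq_pgroup p N
  set L := Z.comap (QuotientGroup.mk' N) with hL
  have hNL : N ≤ L := by
    intro n hn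
    show QuotientGroup.mk' N n ∈ Z
    have : QuotientGroup.mk' N n = 1 := (QuotientGroup.eq_one_iff n).2 hn
    rw [this]; exact Subgroup.one_mem _
  obtain ⟨A, hAp, hAL, hLA, hAab, hAN⟩ := exists_compl N hNp Z hZp (Zq_comm p N)
  have hvan : ∀ g : G, QuotientGroup.mk' N g ∈ Z → QuotientGroup.mk' N g ≠ 1 →
      Van g ∧ p ∣ orderOf g := fun g hg hg1 => section_van N hNab hO hg hg1
  obtain ⟨z0, hz0, hz01⟩ := exists_ne_one hZne
  obtain ⟨g0, hg0⟩ := QuotientGroup.mk'_surjective N z0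
  have hg0v := hvan g0 (by rw [hg0]; exact hz0) (by rw [hg0]; exact hz01)
  have hVS : ∀ g : G, Van g → p ∣ orderOf g → QuotientGroup.mk' N g ∈ Z ∧
      QuotientGroup.mk' N g ≠ 1 := by
    intro g hg hpg
    have h4 := hV g0 g hg0v.1 hg0v.2 hg hpg
    obtain ⟨c, hc⟩ := isConj_iff.1 h4
    rw [← hc, map_mul, map_mul, map_inv, hg0]
    refine ⟨(inferInstance : (Zq p N).Normal).conj_mem z0 hz0 _, fun h5 => hz01 ?_⟩
    rw [mul_inv_eq_one] at h5
    exact mul_eq_left.1 h5
  -- A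
  have hA1 : ∀ a ∈ A, a ≠ 1 → QuotientGroup.mk' N a ∈ Z ∧ QuotientGroup.mk' N a ≠ 1 := by
    intro a ha ha1
    exact ⟨hAL ha, fun h4 => ha1 (hAN a ha ((QuotientGroup.eq_one_iff a).1 h4))⟩
  have hAne : A ≠ ⊥ := by
    intro h4
    obtain ⟨a, ha, n, hn, hl⟩ := hLA g0 (by
      show QuotientGroup.mk' N g0 ∈ Z
      rw [hg0]; exact hz0)
    rw [h4, Subgroup.mem_bot] at ha
    rw [ha, one_mul] at hl
    apply hz01
    rw [← hg0, hl]
    exact (QuotientGroup.eq_one_iff n).2 hn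
  obtain ⟨a0, ha0, ha0p⟩ : ∃ a ∈ A, orderOf a = p := by
    obtain ⟨k, hk⟩ := IsPGroup.iff_card.1 hAp
    have hk0 : k ≠ 0 := by
      rintro rfl
      rw [pow_zero] at hk
      exact hAne (Subgroup.card_eq_one.1 hk)
    obtain ⟨a, ha⟩ := exists_prime_orderOf_dvd_card' (G := A) p (by rw [hk]; exact dvd_pow_self p hk0)
    exact ⟨a, a.2, by rw [← ha]; exact Subgroup.orderOf_coe a⟩
  have ha01 : a0 ≠ 1 := by
    rintro rfl
    rw [orderOf_one] at ha0p
    exact hp.out.one_lt.ne ha0p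
  have hord : ∀ g : G, QuotientGroup.mk' N g ∈ Z → QuotientGroup.mk' N g ≠ 1 → orderOf g = p := by
    intro g hg hg1
    have h4 := hvan g hg hg1
    have h5 := hA1 a0 ha0 ha01
    have h6 := hvan a0 h5.1 h5.2
    obtain ⟨c, hc⟩ := isConj_iff.1 (hV a0 g h6.1 h6.2 h4.1 h4.2)
    rw [← hc, ← ha0p]
    exact (MulAut.conj c).orderOf_eq a0
  have hAord : ∀ a ∈ A, a ≠ 1 → orderOf a = p := fun a ha ha1 =>
    hord a (hA1 a ha ha1).1 (hA1 a ha ha1).2
  have hfpf : ∀ a ∈ A, a ≠ 1 → N ⊓ Subgroup.centralizer {a} = ⊥ := by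
    intro a ha ha1
    rw [Subgroup.eq_bot_iff_forall]
    rintro n ⟨hn, hnc⟩
    have hc : Commute a n := Subgroup.mem_centralizer_iff.1 hnc a rfl
    have h4 : QuotientGroup.mk' N (a * n) = QuotientGroup.mk' N a := by
      rw [map_mul]
      have : QuotientGroup.mk' N n = 1 := (QuotientGroup.eq_one_iff n).2 hn
      rw [this, mul_one]
    have h5 := hord (a * n) (by rw [h4]; exact (hA1 a ha ha1).1)
      (by rw [h4]; exact (hA1 a ha ha1).2)
    have h6 : (a * n) ^ p = 1 := by rw [← h5]; exact pow_orderOf_eq_one _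
    have h7 : a ^ p = 1 := by rw [← hAord a ha ha1]; exact pow_orderOf_eq_one _
    rw [hc.mul_pow, h7, one_mul] at h6
    have h8 : orderOf n ∣ p := orderOf_dvd_of_pow_eq_one h6
    have h9 : orderOf n ∣ Nat.card N := by
      rw [← Subgroup.orderOf_mk n hn]; exact orderOf_dvd_natCard _
    have h10 : p.Coprime (Nat.card N) := (Nat.Prime.coprime_iff_not_dvd hp.out).2 hNp
    exact orderOf_eq_one_iff.1 (Nat.eq_one_of_dvd_coprimes h10 h8 h9)
  have hcyc : IsCyclic A := by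
    refine H1.Cyc.isCyclic_of_fpf_subgroup A N hN1 ?_ hfpf (Or.inl ?_)
    · rw [Subgroup.normalizer_eq_top]; exact le_top
    · exact ⟨⟨fun a b => Subtype.ext (hAab a a.2 b b.2)⟩⟩
  obtain ⟨a, ha, ha1, hagen⟩ := zpowers_of_cyclic_exp (p := p) hcyc hAord hAne
  have hcardZ : Nat.card Z = p := by
    have h4 : Z = Subgroup.zpowers (QuotientGroup.mk' N a) := by
      apply le_antisymm
      · intro z hz
        obtain ⟨g, rfl⟩ := QuotientGroup.mk'_surjective N z
        obtain ⟨b, hb, n, hn, hl⟩ := hLA g hz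
        obtain ⟨k, rfl⟩ := hagen b hb
        rw [hl, map_mul, map_zpow]
        have : QuotientGroup.mk' N n = 1 := (QuotientGroup.eq_one_iff n).2 hn
        rw [this, mul_one]
        exact Subgroup.zpow_mem _ (Subgroup.mem_zpowers _) k
      · rw [Subgroup.zpowers_le]; exact hAL ha
    have h5 : orderOf (QuotientGroup.mk' N a) = p := by
      have h6 : orderOf (QuotientGroup.mk' N a) ∣ p := by
        rw [← hAord a ha ha1]; exact orderOf_map_dvd _ a
      rcases (Nat.dvd_prime hp.out).1 h6 with h7 | h7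
      · exact absurd (orderOf_eq_one_iff.1 h7) (hA1 a ha ha1).2
      · exact h7
    rw [h4, Nat.card_zpowers, h5]
  -- Q is abelian
  have hQp : IsPGroup p (pCore p (G ⧸ N)) := H1.Cores.isPGroup_pCore p
  have hQZ : pCore p (G ⧸ N) ≤ Z := by
    by_contra hcon
    have hne : Subgroup.center (pCore p (G ⧸ N)) ≠ ⊤ := by
      intro h4
      apply hcon
      intro x hx
      refine ⟨hx, Subgroup.mem_centralizer_iff.2 fun y hy => ?_⟩
      have h5 : (⟨x, hx⟩ : pCore p (G ⧸ N)) ∈ Subgroup.center (pCore p (G ⧸ N)) := by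
        rw [h4]; exact Subgroup.mem_top _
      exact congrArg Subtype.val (Subgroup.mem_center_iff.1 h5 ⟨y, hy⟩)
    obtain ⟨x, y, b, hx, hb, hb1, hxy⟩ := exists_second_center hQp hne
    have hbZ : (b : G ⧸ N) ∈ Z := by
      refine ⟨b.2, Subgroup.mem_centralizer_iff.2 fun w hw => ?_⟩
      exact congrArg Subtype.val (Subgroup.mem_center_iff.1 hb ⟨w, hw⟩)
    have hvx : Van (x : G ⧸ N) := by
      refine van_of_second_center Z hcardZ (y := (y : G ⧸ N)) (a := (b : G ⧸ N)) ?_ hbZ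
        (fun h => hb1 (Subtype.ext h)) ?_
      · exact congrArg Subtype.val hxy
      · exact congrArg Subtype.val (Subgroup.mem_center_iff.1 hb y)
    obtain ⟨x', hx'⟩ := QuotientGroup.mk'_surjective N (x : G ⧸ N)
    have hx1 : (x : G ⧸ N) ≠ 1 := by
      intro h4
      apply hx
      have : x = 1 := Subtype.ext h4
      rw [this]; exact Subgroup.one_mem _
    have h5 := hVS x' (van_of_quot N (by rw [hx']; exact hvx)) (by
      refine (dvd_orderOf_of_pgroup hQp x.2 hx1).trans ?_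
      rw [← hx']; exact orderOf_map_dvd _ x')
    rw [hx'] at h5
    apply hx
    rw [Subgroup.mem_center_iff]
    intro w
    exact Subtype.ext (Subgroup.mem_centralizer_iff.1 h5.1.2 w w.2)
  -- G / L
  have hLn : L.Normal := inferInstance
  have hA := thmA p _ (G ⧸ L) rfl inferInstance (by
    intro g hg hpg
    obtain ⟨g, rfl⟩ := QuotientGroup.mk'_surjective L g
    have h4 := hVS g (van_of_quot L hg) (hpg.trans (orderOf_map_dvd _ g))
    have h5 : QuotientGroup.mk' L g = 1 := (QuotientGroup.eq_one_iff g).2 h4.1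
    rw [h5, orderOf_one] at hpg
    exact hp.out.one_lt.ne' (Nat.dvd_one.1 hpg))
  have hcoreL : pCore p (G ⧸ L) = ⊥ := by
    set R := (pCore p (G ⧸ L)).comap (QuotientGroup.mk' L) with hR
    have hRn : (R.map (QuotientGroup.mk' N)).Normal :=
      Subgroup.Normal.map inferInstance _ (QuotientGroup.mk'_surjective N)
    have hRp : IsPGroup p (R.map (QuotientGroup.mk' N)) := by
      rintro ⟨_, ⟨r, hr, rfl⟩⟩
      obtain ⟨k, hk⟩ := (H1.Cores.isPGroup_pCore (G := G ⧸ L) p) ⟨QuotientGroup.mk' L r, hr⟩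
      have hk' : (QuotientGroup.mk' L r) ^ p ^ k = 1 := congrArg Subtype.val hk
      rw [← map_pow] at hk'
      have h4 : r ^ p ^ k ∈ L := (QuotientGroup.eq_one_iff _).1 hk'
      obtain ⟨j, hj⟩ := hZp ⟨QuotientGroup.mk' N (r ^ p ^ k), h4⟩
      have hj' : (QuotientGroup.mk' N (r ^ p ^ k)) ^ p ^ j = 1 := congrArg Subtype.val hj
      refine ⟨k + j, Subtype.ext ?_⟩
      show (QuotientGroup.mk' N r) ^ p ^ (k + j) = 1
      rw [pow_add, pow_mul, ← map_pow]
      exact hj'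
    have h4 := (H1.Cores.le_pCore hRn hRp).trans hQZ
    rw [Subgroup.eq_bot_iff_forall]
    intro z hz
    obtain ⟨r, rfl⟩ := QuotientGroup.mk'_surjective L z
    exact (QuotientGroup.eq_one_iff r).2 (h4 ⟨r, hz, rfl⟩)
  rw [hcoreL, Subgroup.index_bot] at hA
  have hcardL : Nat.card L = Nat.card N * Nat.card Z := H1.Cores.card_comap_mk' N Z
  rw [Subgroup.card_eq_card_quotient_mul_card_subgroup L, hcardL, hcardZ, pow_two, ← mul_assoc] at hd
  have h4 : p ∣ Nat.card (G ⧸ L) * Nat.card N := Nat.dvd_of_mul_dvd_mul_right hp.out.pos hd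
  rcases hp.out.dvd_mul.1 h4 with h5 | h5
  · exact hA h5
  · exact hNp h5

end H85.VanP
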